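import Cfsg.Agent.H611.EB.Odd
import Cfsg.Agent.H633.Principal
import Cfsg.Agent.H594.Cyclic
import Cfsg.Agent.S0867
import Cfsg.Agent.S0941
import Cfsg.Agent.Blocks.Central
import Cfsg.Agent.H269.EB515.MemInd
import Cfsg.Agent.H612.Heredity
import Cfsg.Agent.H612.MinNormal
import Cfsg.Agent.H24.S74.OddIdx
import Cfsg.Agent.H684.EB.Base
import Cfsg.Agent.S0018
import Cfsg.Agent.H611.EvenFixed
import Cfsg.Agent.Lib.Cores
import Cfsg.Agent.S4593
import Cfsg.Agent.H142.GmnTable
import Cfsg.Agent.H183.EB515.Eight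
import Cfsg.Agent.H832.EB515.Moved
import Cfsg.Agent.H729.EB515CardFour
import Cfsg.Agent.Blocks.UniqueBlock
import Cfsg.Agent.Lib.HallHigman
import Cfsg.Agent.H724.EB515.NormalComm
import Cfsg.Agent.H921.EB515.OddAbel

set_option autoImplicit false
set_option linter.unusedSectionVars false
set_option linter.style.haveILetI false

/-!
# Groups whose fixed members of the principal 2-block have odd degree

* `AOB M G k`: every member of the principal block of `G` fixed by the power map has odd degree.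
* `AOB.quot`, `AOB.odd_index`: heredity.
* `infl_mem`: if `R ≤ D` is a `p`-subgroup of the normal subgroup `D` and `C_G(R) ≤ D`, all the
  characters of `G / D` are in the principal block of `G`.
* `exists_fixed_ext`: the canonical extension is fixed by the power map.
-/


namespace Cfsg.Agent.H611.EB515

open Cfsg Cfsg.Agent.Characters Cfsg.Agent.H694
open scoped ComplexConjugate
open Cfsg.Agent.Characters.Core
open Cfsg.Agent.OddOrderCharacters.NormalInduced (conjFn)
open Cfsg.Agent.Blocks.Local Cfsg.Agent.Blocks.Basic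
open Cfsg.Agent.H610.EB Cfsg.Agent.H611.EB
open Cfsg.Agent.H610

universe u

/-- Every member of the principal block fixed by the power map has odd degree. -/
def AOB (M : Ideal AlgInt) (G : Type u) [Group G] (k : ℕ) : Prop :=
  ∀ χ ∈ principalBlock M G, (∀ g : G, (χ : G → ℂ) (g ^ k) = (χ : G → ℂ) g) →
    Odd (charDegree (χ : G → ℂ))

/-- The left to right direction of S4516. -/
def Nine : Prop :=
  ∀ (G : Type u) [Group G] [Finite G] (P : Sylow 2 G) (k : ℕ), IsK G k →
    (∀ χ : IrrCharacter G, (∀ g : G, (χ : G → ℂ) (g ^ k) = (χ : G → ℂ) g) →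
      Odd (charDegree (χ : G → ℂ))) → (P : Subgroup G).Normal ∧ IsMulCommutative P

theorem IsK.of_surjective {G : Type*} [Group G] [Finite G] {k : ℕ} (h : IsK G k) {H : Type*}
    [Group H] (f : G →* H) (hf : Function.Surjective f) : IsK H k where
  two x hx := by
    obtain ⟨j, hj⟩ := hx
    obtain ⟨g, rfl⟩ := hf x
    obtain ⟨a, m, hm, hgm⟩ := Nat.exists_eq_two_pow_mul_odd (orderOf_pos g).ne'
    obtain ⟨e, he0, he1⟩ := Nat.chineseRemainder
      (Nat.Coprime.pow_left j (Nat.coprime_two_left.2 hm)) 1 0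
    -- `g ^ e` is a 2-element with the same image
    have h3 : ∃ i : ℕ, orderOf (g ^ e) = 2 ^ i := by
      have h4 : orderOf (g ^ e) ∣ 2 ^ a := by
        apply orderOf_dvd_of_pow_eq_one
        rw [← pow_mul, ← orderOf_dvd_iff_pow_eq_one, hgm, mul_comm]
        exact mul_dvd_mul ((Nat.modEq_zero_iff_dvd).1 he1) dvd_rfl
      obtain ⟨i, -, hi⟩ := (Nat.dvd_prime_pow Nat.prime_two).1 h4
      exact ⟨i, hi⟩
    have h4 : f (g ^ e) = f g := by
      rw [map_pow]
      nth_rewrite 2 [← pow_one (f g)]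
      rw [pow_eq_pow_iff_modEq, hj]
      exact he0
    rw [← h4, ← map_pow, h.two _ h3]
  odd x hx := by
    obtain ⟨g, rfl⟩ := hf x
    obtain ⟨a, m, hm, hgm⟩ := Nat.exists_eq_two_pow_mul_odd (orderOf_pos g).ne'
    have h1 : orderOf (f g) ∣ m := by
      have h2 : orderOf (f g) ∣ 2 ^ a * m := by
        rw [← hgm]
        exact orderOf_map_dvd f g
      exact (Nat.Coprime.pow_right a (Nat.coprime_two_right.2 hx)).dvd_of_dvd_mul_left h2
    obtain ⟨e, he0, he1⟩ := Nat.chineseRemainder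
      (Nat.Coprime.pow_left a (Nat.coprime_two_left.2 hm)) 0 1
    have h3 : Odd (orderOf (g ^ e)) := by
      refine Odd.of_dvd_nat hm ?_
      apply orderOf_dvd_of_pow_eq_one
      rw [← pow_mul, ← orderOf_dvd_iff_pow_eq_one, hgm]
      exact mul_dvd_mul ((Nat.modEq_zero_iff_dvd).1 he0) dvd_rfl
    have h4 : f (g ^ e) = f g := by
      rw [map_pow]
      nth_rewrite 2 [← pow_one (f g)]
      rw [pow_eq_pow_iff_modEq]
      exact he1.of_dvd h1
    rw [← h4, ← map_pow, ← map_inv, h.odd _ h3]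

section

variable {G : Type u} [Group G] [Finite G] {M : Ideal AlgInt} {k : ℕ}

open Cfsg.Agent.H633.Principal (infl infl_apply inflate_mem exists_infl)

theorem charDegree_infl (N : Subgroup G) [N.Normal] (χ : IrrCharacter (G ⧸ N)) :
    charDegree (infl N χ : G → ℂ) = charDegree (χ : G ⧸ N → ℂ) := by
  rw [charDegree_def, charDegree_def, infl_apply, QuotientGroup.mk_one]

theorem infl_fixed (N : Subgroup G) [N.Normal] {χ : IrrCharacter (G ⧸ N)}
    (h : ∀ g : G ⧸ N, (χ : G ⧸ N → ℂ) (g ^ k) = (χ : G ⧸ N → ℂ) g) (g : G) :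
    (infl N χ : G → ℂ) (g ^ k) = (infl N χ : G → ℂ) g := by
  rw [infl_apply, infl_apply, QuotientGroup.mk_pow, h]

theorem AOB.quot (hM : IsPModular 2 M) (N : Subgroup G) [N.Normal] (h : AOB M G k) :
    AOB M (G ⧸ N) k := by
  haveI := isPrime_of_isPModular hM
  intro χ hχ hk
  rw [← charDegree_infl]
  exact h _ (inflate_mem N hχ) (infl_fixed N hk)

theorem AOB.odd_index (hM : IsPModular 2 M) (hk : IsK G k) (N : Subgroup G) [N.Normal]
    (hidx : Odd N.index) (h : AOB M G k) : AOB M N k := by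
  haveI := Fintype.ofFinite G
  haveI := Fintype.ofFinite N
  intro θ hθ hθk
  obtain ⟨χ, h1, h2⟩ := exists_over hk N hidx θ hθk
  have h3 := h χ ((mem_iff hM hk N hidx χ h2 θ h1).2 hθ) h2
  rw [← Nat.not_even_iff_odd, ← (over_parity hk N hidx χ h2 θ h1).2, Nat.not_even_iff_odd]
  exact h3

/-- **The characters of `G / D` are in the principal block** when `C_G(R) ≤ D` for a `p`-subgroup
`R` of `D`. -/
theorem infl_mem {p : ℕ} [hp : Fact p.Prime] (hM : IsPModular p M) (D : Subgroup G) [hD : D.Normal]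
    (R : Subgroup G) (hR : IsPGroup p R) (hRD : R ≤ D)
    (hC : Subgroup.centralizer (R : Set G) ≤ D) (χ : IrrCharacter (G ⧸ D)) :
    infl D χ ∈ principalBlock M G := by
  haveI := isPrime_of_isPModular hM
  intro g
  have h1 := Cfsg.Agent.S0941.centralChar_inflate D (fun _ => (1 : ℂ)) g
  have h2 := Cfsg.Agent.S0941.centralChar_inflate D (χ : G ⧸ D → ℂ) g
  have h1' : centralChar (fun _ : G => (1 : ℂ)) g =
      centralChar ((fun _ : G ⧸ D => (1 : ℂ)) ∘ (QuotientGroup.mk : G → G ⧸ D)) g := rfl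
  show MemLocalIdeal M (centralChar (fun _ : G => (1 : ℂ)) g -
    centralChar ((χ : G ⧸ D → ℂ) ∘ (QuotientGroup.mk : G → G ⧸ D)) g)
  rw [h1', h1, h2, ← mul_sub]
  by_cases hg : g ∈ D
  · have h3 : (QuotientGroup.mk g : G ⧸ D) = 1 := (QuotientGroup.eq_one_iff g).2 hg
    rw [h3, centralChar_one (χ := fun _ : G ⧸ D => (1 : ℂ)) one_ne_zero,
      centralChar_one (isIrr_apply_one_ne_zero χ.2), sub_self, mul_zero]
    exact memLocalIdeal_zero
  · -- the index is divisible by `p`
    set H := (Subgroup.centralizer ({QuotientGroup.mk g} : Set (G ⧸ D))).comap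
      (QuotientGroup.mk' D) with hH
    have hdvd : p ∣ (Subgroup.centralizer ({g} : Set G)).relIndex H := by
      by_contra hnd
      have hRH : R ≤ H := by
        intro r hr
        rw [hH, Subgroup.mem_comap, Subgroup.mem_centralizer_singleton_iff]
        have h3 : (QuotientGroup.mk' D) r = 1 := (QuotientGroup.eq_one_iff r).2 (hRD hr)
        rw [h3, one_mul, mul_one]
      obtain ⟨Q⟩ : Nonempty (Sylow p ((Subgroup.centralizer ({g} : Set G)).subgroupOf H)) :=
        inferInstance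
      -- a Sylow subgroup of `H` inside the centralizer
      set Q' : Subgroup H := (Q : Subgroup ((Subgroup.centralizer ({g} : Set G)).subgroupOf H)).map
        ((Subgroup.centralizer ({g} : Set G)).subgroupOf H).subtype with hQ'
      have hQ'p : IsPGroup p Q' := Q.2.map _
      have hQ'i : ¬ p ∣ Q'.index := by
        intro h3
        have h4 : Q'.index = Q'.relIndex ((Subgroup.centralizer ({g} : Set G)).subgroupOf H) *
            ((Subgroup.centralizer ({g} : Set G)).subgroupOf H).index :=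
          (Subgroup.relIndex_mul_index (Subgroup.map_subtype_le _)).symm
        rw [h4, hp.out.dvd_mul] at h3
        rcases h3 with h3 | h3
        · have h5 : Q'.relIndex ((Subgroup.centralizer ({g} : Set G)).subgroupOf H) =
              (Q : Subgroup ((Subgroup.centralizer ({g} : Set G)).subgroupOf H)).index := by
            have h6 : Q'.subgroupOf ((Subgroup.centralizer ({g} : Set G)).subgroupOf H) =
                (Q : Subgroup ((Subgroup.centralizer ({g} : Set G)).subgroupOf H)) :=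
              Subgroup.comap_map_eq_self_of_injective (Subgroup.subtype_injective _) _
            rw [Subgroup.relIndex, h6]
          rw [h5] at h3
          exact Q.not_dvd_index h3
        · exact hnd h3
      obtain ⟨x, hx⟩ : ∃ x : H, ∀ r ∈ R.subgroupOf H, x⁻¹ * r * x ∈ Q' := by
        have hRp : IsPGroup p (R.subgroupOf H) := by
          have h3 : Function.Injective (Subgroup.subgroupOfEquivOfLe hRH) :=
            (Subgroup.subgroupOfEquivOfLe hRH).injective
          exact hR.of_injective (Subgroup.subgroupOfEquivOfLe hRH).toMonoidHom h3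
        obtain ⟨S₁, hS₁⟩ := hRp.exists_le_sylow
        obtain ⟨S₂, hS₂⟩ := hQ'p.exists_le_sylow
        have hS₂' : (S₂ : Subgroup H) = Q' := by
          symm
          refine Subgroup.eq_of_le_of_card_ge hS₂ ?_
          obtain ⟨i, hi⟩ := IsPGroup.iff_card.1 S₂.2
          have h3 : Nat.card S₂ ∣ Nat.card Q' * Q'.index := by
            rw [Subgroup.card_mul_index]
            exact Subgroup.card_subgroup_dvd_card _
          have h4 : Nat.Coprime (Nat.card S₂) Q'.index := by
            rw [hi]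
            exact Nat.Coprime.pow_left i ((Nat.Prime.coprime_iff_not_dvd hp.out).2 hQ'i)
          exact Nat.le_of_dvd Nat.card_pos (h4.dvd_of_dvd_mul_right h3)
        obtain ⟨x, hx⟩ := MulAction.exists_smul_eq H S₂ S₁
        refine ⟨x, fun r hr => ?_⟩
        have h3 : r ∈ (S₁ : Subgroup H) := hS₁ hr
        rw [← hx, Sylow.coe_subgroup_smul, Subgroup.mem_pointwise_smul_iff_inv_smul_mem] at h3
        rw [← hS₂']
        simpa [MulAut.smul_def] using h3
      -- the conjugate of `g` is in the centralizer of `R`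
      have h3 : (x : G) * g * (x : G)⁻¹ ∈ Subgroup.centralizer (R : Set G) := by
        rw [Subgroup.mem_centralizer_iff]
        intro r hr
        have h4 := hx ⟨r, hRH hr⟩ hr
        obtain ⟨y, hy, hyx⟩ := h4
        have h5 : (y : H) ∈ (Subgroup.centralizer ({g} : Set G)).subgroupOf H := y.2
        rw [Subgroup.mem_subgroupOf, Subgroup.mem_centralizer_singleton_iff] at h5
        have h6 : ((y : H) : G) = (x : G)⁻¹ * r * x := congrArg Subtype.val hyx
        rw [h6] at h5
        calc r * ((x : G) * g * (x : G)⁻¹) = x * ((x : G)⁻¹ * r * x * g) * (x : G)⁻¹ := by group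
          _ = x * (g * ((x : G)⁻¹ * r * x)) * (x : G)⁻¹ := by rw [h5]
          _ = x * g * (x : G)⁻¹ * r := by group
      have h4 := hC h3
      apply hg
      have h5 := hD.conj_mem _ h4 (x : G)⁻¹
      have h6 : (x : G)⁻¹ * ((x : G) * g * (x : G)⁻¹) * (x : G)⁻¹⁻¹ = g := by group
      rwa [h6] at h5
    refine memLocalIdeal_mul_right ((memLocalIdeal_natCast_iff hM _).2 hdvd) ?_
    exact memLocalRing_sub
      (memLocalRing_of_isIntegral (Cfsg.Agent.Blocks.Central.isIntegral_centralChar isIrrCharacter_one _))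
      (memLocalRing_of_isIntegral (Cfsg.Agent.Blocks.Central.isIntegral_centralChar χ.2 _))

/-- **The canonical extension** is fixed by the power map. -/
theorem exists_fixed_ext (hk : Nat.Coprime k (Nat.card G)) (N : Subgroup G) [hN : N.Normal]
    (hidx : ∃ j : ℕ, N.index = 2 ^ j) (θ : IrrCharacter N)
    (hθ : ∀ n : N, (θ : N → ℂ) (n ^ k) = (θ : N → ℂ) n)
    (hinv : ∀ g : G, conjFn N (θ : N → ℂ) g = θ) (hodd : Odd (charDegree (θ : N → ℂ)))
    (hdet : Odd (detOrder (θ : N → ℂ))) :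
    ∃ χ : IrrCharacter G, (∀ g : G, (χ : G → ℂ) (g ^ k) = (χ : G → ℂ) g) ∧
      ∀ n : N, (χ : G → ℂ) n = (θ : N → ℂ) n := by
  obtain ⟨j, hj⟩ := hidx
  have hcop : Nat.Coprime N.index (detOrder (θ : N → ℂ) * charDegree (θ : N → ℂ)) := by
    rw [hj]
    exact Nat.Coprime.pow_left j (Nat.coprime_two_left.2 (hdet.mul hodd))
  obtain ⟨χ, ⟨h1, h2, h3⟩, h4⟩ := Cfsg.Agent.S0867.result N (θ : N → ℂ) θ.2
    (fun g n => congrFun (hinv g) n) (charDegree (θ : N → ℂ)) (irr_one_eq_charDegree θ.2) hcop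
  obtain ⟨σ, hσ⟩ := Cfsg.Agent.Characters.GaloisBasic.exists_ringEquiv_of_coprime (G := G) hk
  have hfun : (fun g => σ (χ g)) = fun g => χ (g ^ k) :=
    funext fun g => hσ χ (isIrr_isCharacter h1) g
  have h5 := h4 (fun g => χ (g ^ k))
    (by
      rw [← hfun]
      exact Cfsg.Agent.Characters.GaloisIrr.isIrr_map σ h1)
    (by
      intro n
      show χ ((n : G) ^ k) = _
      rw [← Subgroup.coe_pow, h2, hθ])
    (by
      rw [← hfun, Cfsg.Agent.H594.Cyclic.detOrder_map σ h1, h3]
      exact (Nat.coprime_mul_iff_right.1 hcop).1)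
  exact ⟨⟨χ, h1⟩, fun g => congrFun h5 g, h2⟩

/-- The determinantal order is odd for groups with an odd abelian quotient only. -/
theorem odd_detOrder (N : Subgroup G) [N.Normal] (hN : Odd N.index) (hperf : N ≤ commutator G)
    (θ : IrrCharacter G) : Odd (detOrder (θ : G → ℂ)) := by
  obtain ⟨δ, hδ⟩ := Cfsg.Agent.CharactersDeep.ExtUnique.exists_hom_detChar θ.2
  refine Odd.of_dvd_nat hN ?_
  show orderOf (detChar (θ : G → ℂ)) ∣ N.index
  apply orderOf_dvd_of_pow_eq_one
  funext g
  have h1 : g ^ N.index ∈ δ.ker :=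
    ((hperf.trans (Abelianization.commutator_subset_ker δ)) (Subgroup.pow_index_mem N g))
  rw [Pi.pow_apply, hδ, ← Units.val_pow_eq_pow_val, ← map_pow, MonoidHom.mem_ker.1 h1]
  simp

end

end Cfsg.Agent.H611.EB515

/-!
# The case of a nonabelian minimal normal subgroup with nonabelian Sylow 2-subgroups
-/


namespace Cfsg.Agent.H611.EB515

open Cfsg Cfsg.Agent.Characters Cfsg.Agent.H694
open scoped ComplexConjugate commutatorElement
open Cfsg.Agent.Characters.Core
open Cfsg.Agent.OddOrderCharacters.NormalInduced (conjFn)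
open Cfsg.Agent.OddOrderCharacters.PF9.CliffGen (resTo)
open Cfsg.Agent.Blocks.Local Cfsg.Agent.Blocks.Basic
open Cfsg.Agent.H610.EB Cfsg.Agent.H611.EB Cfsg.Agent.H684.EB
open Cfsg.Agent.H610
open Cfsg.Agent.H612.Heredity (irr_ind sum_coset_eq_zero indFun_one)
open Cfsg.Agent.H612.MinNormal (cj mem_cj mem_normalizer_iff_cj)
open Cfsg.Agent.H633.Principal (infl infl_apply inflate_mem)

universe u

/-- **The conclusion for a group `A` with `N ⊴ A`, `C_A(N) = 1` and solvable quotient with abelian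
Sylow 2-subgroups.** -/
theorem concl_of_evenJ {A : Type u} [Group A] [Fintype A] {M : Ideal AlgInt} (hM : IsPModular 2 M)
    {k : ℕ} (hk : IsK A k) {S : Type u} [Group S] (hS : EvenJ S) (N : Subgroup A) [hN : N.Normal]
    [Fintype N] (f : Nonempty (S ≃* N)) (hC : Subgroup.centralizer (N : Set A) = ⊥)
    (hsol : Group.IsSolvable (A ⧸ N))
    (hab : ∀ P : Sylow 2 (A ⧸ N), IsMulCommutative P) : Concl M A N k := by
  classical
  haveI hp : Fact (Nat.Prime 2) := ⟨Nat.prime_two⟩
  obtain ⟨P⟩ : Nonempty (Sylow 2 (A ⧸ N)) := inferInstance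
  set O : Subgroup (A ⧸ N) := Cfsg.pPrimeCore 2 (A ⧸ N) with hO
  set L : Subgroup (A ⧸ N) := (P : Subgroup (A ⧸ N)) ⊔ O with hL
  haveI hLn : L.Normal := Cfsg.Agent.S0018.result 2 P (hab P)
  haveI hOn : O.Normal := by
    rw [hO]
    infer_instance
  have hOL : O ≤ L := le_sup_right
  have hOodd : Odd (Nat.card O) := by
    exact Nat.coprime_two_right.1 (Cfsg.Agent.Lib.Cores.pPrimeCore_coprime 2)
  have hLodd : Odd L.index := by
    rw [← Nat.not_even_iff_odd, even_iff_two_dvd]
    intro h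
    exact P.not_dvd_index (h.trans (Subgroup.index_dvd_of_le le_sup_left))
  -- the preimages
  set π := QuotientGroup.mk' N with hπ
  have hπs : Function.Surjective π := QuotientGroup.mk'_surjective N
  set A₁ : Subgroup A := L.comap π with hA₁
  set J : Subgroup A := O.comap π with hJ
  haveI hA₁n : A₁.Normal := hLn.comap π
  haveI hJn : J.Normal := hOn.comap π
  have hJA : J ≤ A₁ := Subgroup.comap_mono hOL
  have hNJ : N ≤ J := by
    intro n hn
    rw [hJ, Subgroup.mem_comap]
    have : π n = 1 := (QuotientGroup.eq_one_iff n).2 hn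
    rw [this]
    exact O.one_mem
  have hNA : N ≤ A₁ := hNJ.trans hJA
  have hA₁idx : Odd A₁.index := by
    rw [hA₁, Subgroup.index_comap_of_surjective _ hπs]
    exact hLodd
  haveI := Fintype.ofFinite A₁
  haveI := Fintype.ofFinite (N.subgroupOf A₁)
  haveI : (N.subgroupOf A₁).Normal := hN.subgroupOf A₁
  haveI : (J.subgroupOf A₁).Normal := hJn.subgroupOf A₁
  have hrel : Odd ((N.subgroupOf A₁).relIndex (J.subgroupOf A₁)) := by
    rw [Subgroup.relIndex_subgroupOf hJA]
    have h1 : N.relIndex J = Nat.card O := by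
      have h2 : N.relIndex J * J.index = N.index := Subgroup.relIndex_mul_index hNJ
      rw [hJ, Subgroup.index_comap_of_surjective _ hπs] at h2
      have h3 : Nat.card O * O.index = Nat.card (A ⧸ N) := Subgroup.card_mul_index O
      have h4 : N.index = Nat.card (A ⧸ N) := rfl
      rw [h4, ← h3] at h2
      exact Nat.eq_of_mul_eq_mul_right (Nat.pos_of_ne_zero Subgroup.index_ne_zero_of_finite) h2
    rw [h1]
    exact hOodd
  have hidx : ∃ j : ℕ, (J.subgroupOf A₁).index = 2 ^ j := by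
    have h1 : (J.subgroupOf A₁).index = O.relIndex L := by
      have h2 : J.relIndex A₁ * A₁.index = J.index := Subgroup.relIndex_mul_index hJA
      rw [hJ, hA₁, Subgroup.index_comap_of_surjective _ hπs,
        Subgroup.index_comap_of_surjective _ hπs] at h2
      have h3 : O.relIndex L * L.index = O.index := Subgroup.relIndex_mul_index hOL
      rw [← h3] at h2
      exact Nat.eq_of_mul_eq_mul_right (Nat.pos_of_ne_zero Subgroup.index_ne_zero_of_finite) h2
    rw [h1]
    -- `L = P O`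
    have h2 : O.relIndex L ∣ Nat.card P := by
      have h3 : O.relIndex ((P : Subgroup (A ⧸ N)) ⊔ O) = O.relIndex (P : Subgroup (A ⧸ N)) :=
        Subgroup.relIndex_sup_right (P : Subgroup (A ⧸ N)) O
      rw [hL, h3]
      exact Subgroup.relIndex_dvd_card _ _
    obtain ⟨n, hn⟩ := IsPGroup.iff_card.1 P.2
    rw [hn] at h2
    obtain ⟨j, -, hj⟩ := (Nat.dvd_prime_pow Nat.prime_two).1 h2
    exact ⟨j, hj⟩
  have hC₁ : Subgroup.centralizer ((N.subgroupOf A₁ : Subgroup A₁) : Set A₁) = ⊥ := by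
    rw [eq_bot_iff]
    intro a ha
    have h1 : (a : A) ∈ Subgroup.centralizer (N : Set A) := by
      rw [Subgroup.mem_centralizer_iff] at ha ⊢
      intro n hn
      exact congrArg Subtype.val (ha ⟨n, hNA hn⟩ hn)
    rw [hC, Subgroup.mem_bot] at h1
    exact Subtype.ext h1
  obtain ⟨e⟩ := f
  obtain ⟨χ₁, h1, h2, h3, h4⟩ := hS A₁ (N.subgroupOf A₁)
    ⟨e.trans (Subgroup.subgroupOfEquivOfLe hNA).symm⟩ hC₁ (J.subgroupOf A₁)
    (fun x hx => hNJ hx) hrel hidx k (hk.sub A₁) M hM
  obtain ⟨χ₂, h5, h6⟩ := exists_over hk A₁ hA₁idx χ₁ h3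
  refine ConclF.descend N A₁ hNA (F := fun θ => θ = χ₁)
    ⟨χ₂, (mem_iff hM hk A₁ hA₁idx χ₂ h6 χ₁ h5).2 h1, (over_parity hk A₁ hA₁idx χ₂ h6 χ₁ h5).2.2 h2,
      h6, χ₁, rfl, h3, h5⟩ ?_
  rintro χ φ rfl h7 h8 h9
  apply h8
  rw [← classInner_dn N A₁ hNA, h9]
  exact h4

/-- **Induction from the normalizer of a component.** -/
theorem exists_of_component {G : Type u} [Group G] [Finite G] {M : Ideal AlgInt}
    (hM : IsPModular 2 M) {k : ℕ} (hk : IsK G k) (S : Subgroup G)
    (hSna : ¬ IsMulCommutative S) (hsimple : IsSimpleGroup S) (hS : EvenJ S)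
    (hSch : Cfsg.Agent.Schreier.Basic.Sch S)
    (hcj : ∀ g : G, cj g S = S ∨ cj g S ≤ Subgroup.centralizer (S : Set G))
    (hab : ∀ Q : Subgroup G, IsPGroup 2 Q → ⁅Q, Q⁆ ≤ S ⊔ Subgroup.centralizer (S : Set G))
    (R : Subgroup G) (hR : IsPGroup 2 R) (hRT : R ≤ Subgroup.normalizer (S : Set G))
    (hRC : Subgroup.centralizer (R : Set G) ≤ Subgroup.normalizer (S : Set G)) :
    ∃ χ ∈ principalBlock M G, Even (charDegree (χ : G → ℂ)) ∧
      ∀ g : G, (χ : G → ℂ) (g ^ k) = (χ : G → ℂ) g := by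
  classical
  have := Fintype.ofFinite G
  haveI hMp := isPrime_of_isPModular hM
  haveI hp : Fact (Nat.Prime 2) := ⟨Nat.prime_two⟩
  set T := Subgroup.normalizer (S : Set G) with hT
  haveI := Fintype.ofFinite T
  have hST : S ≤ T := Subgroup.le_normalizer
  have hCT : Subgroup.centralizer (S : Set G) ≤ T := Subgroup.centralizer_le_normalizer _
  set C' : Subgroup T := (Subgroup.centralizer (S : Set G)).subgroupOf T with hC'
  have hSn : (S.subgroupOf T).Normal := by
    rw [hT]
    infer_instance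
  have hC'n : C'.Normal := by
    constructor
    intro c hc t
    rw [hC', Subgroup.mem_subgroupOf, Subgroup.mem_centralizer_iff] at hc ⊢
    intro s hs
    have ht : (t : G) ∈ Subgroup.normalizer (S : Set G) := t.2
    rw [Subgroup.mem_normalizer_iff''] at ht
    have h3 := hc ((t : G)⁻¹ * s * t) ((ht s).1 hs)
    push_cast
    calc s * ((t : G) * c * (t : G)⁻¹) = t * (((t : G)⁻¹ * s * t) * c) * (t : G)⁻¹ := by group
      _ = t * (c * ((t : G)⁻¹ * s * t)) * (t : G)⁻¹ := by rw [h3]
      _ = t * c * (t : G)⁻¹ * s := by group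
  let φ : S →* T ⧸ C' := (QuotientGroup.mk' C').comp (Subgroup.inclusion hST)
  have hφ : ∀ s : S, φ s = QuotientGroup.mk (Subgroup.inclusion hST s) := fun s => rfl
  -- elements of `S` centralizing `S`
  have hZ : ∀ s ∈ S, s ∈ Subgroup.centralizer (S : Set G) → s = 1 := by
    intro s hs hsC
    have h3 : (⟨s, hs⟩ : S) ∈ Subgroup.center S := by
      rw [Subgroup.mem_center_iff]
      intro t
      rw [Subgroup.mem_centralizer_iff] at hsC
      exact Subtype.ext (hsC t t.2)
    rcases hsimple.eq_bot_or_eq_top_of_normal (Subgroup.center S) inferInstance with h4 | h4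
    · rw [h4, Subgroup.mem_bot] at h3
      exact congrArg Subtype.val h3
    · exfalso
      apply hSna
      refine ⟨⟨fun a b => ?_⟩⟩
      have h5 : a ∈ Subgroup.center S := by rw [h4]; exact Subgroup.mem_top a
      exact (Subgroup.mem_center_iff.1 h5 b).symm
  have hφinj : Function.Injective φ := by
    rw [injective_iff_map_eq_one]
    intro s hs
    rw [hφ, QuotientGroup.eq_one_iff, hC', Subgroup.mem_subgroupOf] at hs
    exact Subtype.ext (hZ s s.2 hs)
  have hrange : φ.range = (S.subgroupOf T).map (QuotientGroup.mk' C') := by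
    ext x
    constructor
    · rintro ⟨s, rfl⟩
      exact ⟨Subgroup.inclusion hST s, s.2, rfl⟩
    · rintro ⟨t, ht, rfl⟩
      exact ⟨⟨t, ht⟩, rfl⟩
  haveI hrn : φ.range.Normal := by
    rw [hrange]
    exact hSn.map _ (QuotientGroup.mk'_surjective C')
  have hcent : Subgroup.centralizer ((φ.range : Subgroup (T ⧸ C')) : Set (T ⧸ C')) = ⊥ := by
    rw [eq_bot_iff]
    intro a ha
    obtain ⟨t, rfl⟩ := QuotientGroup.mk_surjective a
    rw [Subgroup.mem_bot, QuotientGroup.eq_one_iff, hC', Subgroup.mem_subgroupOf,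
      Subgroup.mem_centralizer_iff]
    intro s hs
    rw [Subgroup.mem_centralizer_iff] at ha
    have h1 := ha (φ ⟨s, hs⟩) ⟨_, rfl⟩
    rw [hφ, ← QuotientGroup.mk_mul, ← QuotientGroup.mk_mul, QuotientGroup.eq, hC',
      Subgroup.mem_subgroupOf] at h1
    have h2 : (((Subgroup.inclusion hST ⟨s, hs⟩ * t)⁻¹ * (t * Subgroup.inclusion hST ⟨s, hs⟩) : T) : G) =
        (t : G)⁻¹ * s⁻¹ * t * s := by
      show (s * (t : G))⁻¹ * ((t : G) * s) = _
      group
    rw [h2] at h1
    have h3 : (t : G)⁻¹ * s⁻¹ * t * s ∈ S := by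
      have ht : (t : G) ∈ Subgroup.normalizer (S : Set G) := t.2
      rw [Subgroup.mem_normalizer_iff''] at ht
      exact S.mul_mem ((ht s⁻¹).1 (S.inv_mem hs)) hs
    have h4 := hZ _ h3 h1
    have h5 : (t : G)⁻¹ * s⁻¹ * t = s⁻¹ := mul_eq_one_iff_eq_inv.1 h4
    have h6 : (t : G)⁻¹ * s * t = s := by
      have := congrArg (fun x => x⁻¹) h5
      simp only [mul_inv_rev, inv_inv] at this
      rw [← mul_assoc] at this
      exact this
    calc s * (t : G) = t * ((t : G)⁻¹ * s * t) := by group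
      _ = t * s := by rw [h6]
  have hKA : IsK (T ⧸ C') k :=
    IsK.of_surjective (hk.sub T) (QuotientGroup.mk' C') (QuotientGroup.mk'_surjective C')
  haveI := Fintype.ofFinite (T ⧸ C')
  haveI := Fintype.ofFinite φ.range
  have hsol : Group.IsSolvable ((T ⧸ C') ⧸ φ.range) :=
    Cfsg.Agent.H24.S74.solvable_quotient hrn
      (Cfsg.Agent.Schreier.Basic.Sch.of_equiv (MonoidHom.ofInjective hφinj) hSch) hcent
  have habel : ∀ P : Sylow 2 ((T ⧸ C') ⧸ φ.range), IsMulCommutative P := by
    intro P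
    -- the map from `T`
    let θ : T →* (T ⧸ C') ⧸ φ.range :=
      (QuotientGroup.mk' φ.range).comp (QuotientGroup.mk' C')
    have hθ : Function.Surjective θ :=
      (QuotientGroup.mk'_surjective φ.range).comp (QuotientGroup.mk'_surjective C')
    obtain ⟨Q₀⟩ : Nonempty (Sylow 2 T) := inferInstance
    -- a Sylow subgroup of `T` over `P`
    obtain ⟨x, hx⟩ := MulAction.exists_smul_eq ((T ⧸ C') ⧸ φ.range) (Q₀.mapSurjective hθ) P
    have hker : S ⊔ Subgroup.centralizer (S : Set G) ≤ (θ.ker).map T.subtype := by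
      refine sup_le ?_ ?_
      · intro s hs
        refine ⟨⟨s, hST hs⟩, ?_, rfl⟩
        show (QuotientGroup.mk' φ.range) (QuotientGroup.mk' C' ⟨s, hST hs⟩) = 1
        exact (QuotientGroup.eq_one_iff _).2 ⟨⟨s, hs⟩, rfl⟩
      · intro c hc
        refine ⟨⟨c, hCT hc⟩, ?_, rfl⟩
        show (QuotientGroup.mk' φ.range) (QuotientGroup.mk' C' ⟨c, hCT hc⟩) = 1
        have h4 : (QuotientGroup.mk' C') ⟨c, hCT hc⟩ = 1 := by
          rw [QuotientGroup.mk'_apply, QuotientGroup.eq_one_iff]
          exact hc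
        rw [h4, map_one]
    have hcomm : ∀ a ∈ (Q₀ : Subgroup T), ∀ b ∈ (Q₀ : Subgroup T), θ a * θ b = θ b * θ a := by
      intro a ha b hb
      have h1 : ⁅(a : G), (b : G)⁆ ∈ S ⊔ Subgroup.centralizer (S : Set G) :=
        hab ((Q₀ : Subgroup T).map T.subtype) (Q₀.2.map _)
          (Subgroup.commutator_mem_commutator ⟨a, ha, rfl⟩ ⟨b, hb, rfl⟩)
      obtain ⟨c, hc, hc'⟩ := hker h1
      have h2 : c = ⁅a, b⁆ := Subtype.ext hc'
      rw [h2, SetLike.mem_coe, MonoidHom.mem_ker, map_commutatorElement, commutatorElement_eq_one_iff_mul_comm] at hc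
      exact hc
    refine ⟨⟨fun a b => ?_⟩⟩
    apply Subtype.ext
    have key : ∀ c ∈ (P : Subgroup ((T ⧸ C') ⧸ φ.range)), ∃ q ∈ (Q₀ : Subgroup T),
        c = x * θ q * x⁻¹ := by
      intro c hc
      rw [← hx, Sylow.coe_subgroup_smul, Subgroup.mem_pointwise_smul_iff_inv_smul_mem,
        Sylow.coe_mapSurjective] at hc
      obtain ⟨q, hq, hqc⟩ := hc
      refine ⟨q, hq, ?_⟩
      rw [hqc]
      have h5 : ((MulAut.conj x)⁻¹ • c) = x⁻¹ * c * x := by
        rw [← map_inv, MulAut.smul_def, MulAut.conj_apply, inv_inv]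
      rw [h5]
      group
    obtain ⟨qa, hqa, ha⟩ := key a a.2
    obtain ⟨qb, hqb, hb⟩ := key b b.2
    show (a : (T ⧸ C') ⧸ φ.range) * b = b * a
    rw [ha, hb]
    calc x * θ qa * x⁻¹ * (x * θ qb * x⁻¹) = x * (θ qa * θ qb) * x⁻¹ := by group
      _ = x * (θ qb * θ qa) * x⁻¹ := by rw [hcomm qa hqa qb hqb]
      _ = x * θ qb * x⁻¹ * (x * θ qa * x⁻¹) := by group
  obtain ⟨χ, hχm, hχe, hχk, hχ1⟩ := concl_of_evenJ hM hKA hS φ.range
    ⟨MonoidHom.ofInjective hφinj⟩ hcent hsol habel
  obtain ⟨n, hn, hne⟩ : ∃ n ∈ φ.range, (χ : T ⧸ C' → ℂ) n ≠ (χ : T ⧸ C' → ℂ) 1 := by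
    by_contra hcon
    push Not at hcon
    have h1 : (fun s : φ.range => (χ : T ⧸ C' → ℂ) s) =
        (χ : T ⧸ C' → ℂ) 1 • fun _ => (1 : ℂ) := by
      funext s
      rw [hcon s s.2]
      show _ = (χ : T ⧸ C' → ℂ) 1 * 1
      rw [mul_one]
    rw [h1, classInner_smul_left, classInner_irr_self isIrrCharacter_one, mul_one] at hχ1
    exact isIrr_apply_one_ne_zero χ.2 hχ1
  set ψ : IrrCharacter T := infl C' χ with hψ
  have hψm : ψ ∈ principalBlock M T := inflate_mem C' hχm
  have hψk : ∀ t : T, (ψ : T → ℂ) (t ^ k) = (ψ : T → ℂ) t := infl_fixed C' hχk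
  have hψ1 : (ψ : T → ℂ) 1 = (χ : T ⧸ C' → ℂ) 1 := by
    rw [hψ, infl_apply]
    rfl
  have hirr : IsIrrCharacter G (indFun T (ψ : T → ℂ)) := by
    refine irr_ind T S hST (ψ : T → ℂ) ψ.2 ?_ ?_
    · intro x
      have := Fintype.ofFinite S
      have := Fintype.ofFinite (S.subgroupOf T)
      rw [finsum_eq_sum_of_fintype]
      have h3 := sum_coset_eq_zero (S.subgroupOf T) ψ (by
        obtain ⟨s, hs⟩ := hn
        refine ⟨Subgroup.inclusion hST s, s.2, ?_⟩
        rw [hψ1, hψ, infl_apply, ← hφ, hs]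
        exact hne) x
      rw [← h3]
      symm
      refine Fintype.sum_equiv (Subgroup.subgroupOfEquivOfLe hST).toEquiv _ _ fun n => ?_
      have h4 := isIrr_isClassFunction ψ.2 ((n : T) * x) x
      rw [← h4]
      have h5 : x * ((n : T) * x) * x⁻¹ =
          x * ⟨((Subgroup.subgroupOfEquivOfLe hST).toEquiv n : G), hST (Subtype.prop _)⟩ := by
        apply Subtype.ext
        show (x : G) * ((n : T) * x) * (x : G)⁻¹ = x * (n : T)
        group
      rw [h5]
    · intro g hg s
      have h3 : g⁻¹ * (s : G) * g ∈ Subgroup.centralizer (S : Set G) := by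
        have h4 : g⁻¹ * (s : G) * g ∈ cj g⁻¹ S := by
          rw [mem_cj]
          have : g⁻¹⁻¹ * (g⁻¹ * (s : G) * g) * g⁻¹ = s := by group
          rw [this]
          exact s.2
        rcases hcj g⁻¹ with h5 | h5
        · exfalso
          apply hg
          rw [← mem_normalizer_iff_cj] at h5
          have := (Subgroup.normalizer (S : Set G)).inv_mem h5
          rwa [inv_inv] at this
        · exact h5 h4
      refine ⟨hCT h3, fun x => ?_⟩
      rw [hψ, infl_apply, infl_apply]
      rw [QuotientGroup.mk_mul, (QuotientGroup.eq_one_iff _).2 (show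
        (⟨g⁻¹ * (s : G) * g, hCT h3⟩ : T) ∈ C' from h3), mul_one]
  refine ⟨⟨indFun T (ψ : T → ℂ), hirr⟩,
    Cfsg.Agent.H269.EB515.mem_of_ind hM T R hR hRT hRC ψ hψm hirr, ?_,
    fun g => indFun_pow T hk hψk g⟩
  have h3 : charDegree (indFun T (ψ : T → ℂ)) = T.index * charDegree (χ : T ⧸ C' → ℂ) := by
    have h5 := indFun_one T (ψ : T → ℂ)
    rw [hψ1, irr_one_eq_charDegree χ.2, irr_one_eq_charDegree hirr] at h5
    exact_mod_cast h5
  show Even (charDegree (indFun T (ψ : T → ℂ)))
  rw [h3]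
  exact hχe.mul_left _

end Cfsg.Agent.H611.EB515

/-!
# A minimal normal subgroup with abelian Sylow 2-subgroups

`N ⊴ G` with `C_G(N) = 1`, `Z(N) = 1`, `O(N) = 1` and abelian Sylow 2-subgroup `R₀` of `N`;
`D = N C_G(R₀)`.
-/


namespace Cfsg.Agent.H611.EB515

open Cfsg Cfsg.Agent.Characters Cfsg.Agent.H694
open scoped ComplexConjugate
open Cfsg.Agent.Characters.Core
open Cfsg.Agent.OddOrderCharacters.NormalInduced (conjFn)
open Cfsg.Agent.OddOrderCharacters.PF9.CliffGen (resTo)
open Cfsg.Agent.Blocks.Local Cfsg.Agent.Blocks.Basic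
open Cfsg.Agent.H610.EB Cfsg.Agent.H611.EB
open Cfsg.Agent.H610
open Cfsg.Agent.H612.MinNormal (cj mem_cj mem_normalizer_iff_cj)
open Cfsg.Agent.H633.Principal (infl infl_apply inflate_mem)

universe u

section

variable {G : Type u} [Group G] [Finite G] (N : Subgroup G) [hN : N.Normal]
  (hC : Subgroup.centralizer (N : Set G) = ⊥) (R₀ : Sylow 2 N)

/-- The Sylow subgroup of `N` as a subgroup of `G`. -/
def RR (N : Subgroup G) (R₀ : Sylow 2 N) : Subgroup G := (R₀ : Subgroup N).map N.subtype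

theorem RR_le : RR N R₀ ≤ N := Subgroup.map_subtype_le _

theorem RR_isPGroup : IsPGroup 2 (RR N R₀) := R₀.2.map _

include hC

/-- 2-elements centralizing `R₀` lie in `N`. -/
theorem mem_of_two (hZ : Subgroup.center N = ⊥) (hO : Cfsg.pPrimeCore 2 N = ⊥)
    (hab : IsMulCommutative (R₀ : Subgroup N)) {x : G} (hx : ∃ j : ℕ, orderOf x = 2 ^ j)
    (hxR : x ∈ Subgroup.centralizer (RR N R₀ : Set G)) : x ∈ N := by
  obtain ⟨j, hj⟩ := hx
  have h1 : ∃ i : ℕ, orderOf (MulAut.conjNormal x : MulAut N) = 2 ^ i := by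
    have h2 : orderOf (MulAut.conjNormal x : MulAut N) ∣ 2 ^ j := by
      rw [← hj]
      exact orderOf_map_dvd (MulAut.conjNormal : G →* MulAut N) x
    obtain ⟨i, -, hi⟩ := (Nat.dvd_prime_pow Nat.prime_two).1 h2
    exact ⟨i, hi⟩
  obtain ⟨n, hn⟩ := Cfsg.Agent.S4593.result hZ hO R₀ hab (MulAut.conjNormal x : MulAut N) h1 (by
    intro r hr
    apply Subtype.ext
    rw [MulAut.conjNormal_apply]
    rw [Subgroup.mem_centralizer_iff] at hxR
    have h2 := hxR (r : G) ⟨r, hr, rfl⟩
    rw [← h2]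
    group)
  have h2 : (n : G)⁻¹ * x ∈ Subgroup.centralizer (N : Set G) := by
    rw [Subgroup.mem_centralizer_iff]
    intro m hm
    have h3 := congrArg Subtype.val (hn ⟨m, hm⟩)
    rw [MulAut.conjNormal_apply] at h3
    have h4 : x * m * x⁻¹ = (n : G) * m * (n : G)⁻¹ := h3
    have h5 : m = (n : G)⁻¹ * (x * m * x⁻¹) * n := by rw [h4]; group
    calc m * ((n : G)⁻¹ * x) = (n : G)⁻¹ * (x * m * x⁻¹) * n * ((n : G)⁻¹ * x) := by rw [← h5]
      _ = (n : G)⁻¹ * x * m := by group
  rw [hC, Subgroup.mem_bot] at h2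
  rw [← inv_mul_eq_one.1 h2]
  exact n.2

/-- `C_G(R₀) / C_N(R₀)` has odd order. -/
theorem odd_relIndex_centralizer (hZ : Subgroup.center N = ⊥) (hO : Cfsg.pPrimeCore 2 N = ⊥)
    (hab : IsMulCommutative (R₀ : Subgroup N)) :
    Odd (N.relIndex (Subgroup.centralizer (RR N R₀ : Set G))) := by
  classical
  haveI : Fact (Nat.Prime 2) := ⟨Nat.prime_two⟩
  set C := Subgroup.centralizer (RR N R₀ : Set G) with hCd
  obtain ⟨Q⟩ : Nonempty (Sylow 2 C) := inferInstance
  have h1 : (Q : Subgroup C) ≤ N.subgroupOf C := by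
    intro x hx
    rw [Subgroup.mem_subgroupOf]
    refine mem_of_two N hC R₀ hZ hO hab ?_ x.2
    obtain ⟨j, hj⟩ := IsPGroup.iff_orderOf.1 Q.2 ⟨x, hx⟩
    refine ⟨j, ?_⟩
    rw [← hj, Subgroup.orderOf_coe, ← Subgroup.orderOf_coe (⟨x, hx⟩ : (Q : Subgroup C))]
  have h2 : (N.subgroupOf C).index ∣ (Q : Subgroup C).index := Subgroup.index_dvd_of_le h1
  rw [← Nat.not_even_iff_odd, even_iff_two_dvd]
  intro h3
  exact Q.not_dvd_index (h3.trans h2)

omit hC in
/-- `D = N C_G(R₀)` is normal. -/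
theorem normal_sup : (N ⊔ Subgroup.centralizer (RR N R₀ : Set G)).Normal := by
  classical
  haveI : Fact (Nat.Prime 2) := ⟨Nat.prime_two⟩
  constructor
  intro x hx g
  have hF : Subgroup.normalizer ((R₀ : Subgroup N).map N.subtype : Set G) ⊔ N = ⊤ :=
    Sylow.normalizer_sup_eq_top R₀
  have hg : g ∈ N ⊔ Subgroup.normalizer ((R₀ : Subgroup N).map N.subtype : Set G) := by
    rw [sup_comm, hF]
    exact Subgroup.mem_top g
  obtain ⟨n, hn, m, hm, rfl⟩ := Subgroup.mem_sup_of_normal_left.1 hg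
  obtain ⟨a, ha, c, hc, rfl⟩ := Subgroup.mem_sup_of_normal_left.1 hx
  have h1 : m * a * m⁻¹ ∈ N := hN.conj_mem a ha m
  have h2 : m * c * m⁻¹ ∈ Subgroup.centralizer (RR N R₀ : Set G) := by
    rw [Subgroup.mem_centralizer_iff] at hc ⊢
    intro r hr
    have hm' := Subgroup.mem_normalizer_iff''.1 hm r
    have h3 := hc _ (hm'.1 hr)
    calc r * (m * c * m⁻¹) = m * ((m⁻¹ * r * m) * c) * m⁻¹ := by group
      _ = m * (c * (m⁻¹ * r * m)) * m⁻¹ := by rw [h3]
      _ = m * c * m⁻¹ * r := by group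
  have h3 : n * m * (a * c) * (n * m)⁻¹ = n * ((m * a * m⁻¹) * (m * c * m⁻¹)) * n⁻¹ := by group
  rw [h3]
  have hnD : n ∈ N ⊔ Subgroup.centralizer (RR N R₀ : Set G) := Subgroup.mem_sup_left hn
  exact Subgroup.mul_mem _ (Subgroup.mul_mem _ hnD
    (Subgroup.mul_mem _ (Subgroup.mem_sup_left h1) (Subgroup.mem_sup_right h2)))
    (Subgroup.inv_mem _ hnD)

theorem odd_relIndex_sup (hZ : Subgroup.center N = ⊥) (hO : Cfsg.pPrimeCore 2 N = ⊥)
    (hab : IsMulCommutative (R₀ : Subgroup N)) :
    Odd (N.relIndex (N ⊔ Subgroup.centralizer (RR N R₀ : Set G))) := by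
  rw [Subgroup.relIndex_sup_left]
  exact odd_relIndex_centralizer N hC R₀ hZ hO hab

omit hC in
/-- `G / D` is a 2-group. -/
theorem index_sup (h16 : Nine.{u}) {M : Ideal AlgInt} (hM : IsPModular 2 M) {k : ℕ} (hk : IsK G k)
    (hA : AOB M G k) (hodd : ∀ K : Subgroup G, K.Normal → Odd K.index → K = ⊤) :
    ∃ j : ℕ, (N ⊔ Subgroup.centralizer (RR N R₀ : Set G)).index = 2 ^ j := by
  classical
  haveI : Fact (Nat.Prime 2) := ⟨Nat.prime_two⟩
  set D := N ⊔ Subgroup.centralizer (RR N R₀ : Set G) with hD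
  haveI hDn : D.Normal := normal_sup N R₀
  obtain ⟨P⟩ : Nonempty (Sylow 2 (G ⧸ D)) := inferInstance
  have hkD : IsK (G ⧸ D) k :=
    IsK.of_surjective hk (QuotientGroup.mk' D) (QuotientGroup.mk'_surjective D)
  have h1 := h16 (G ⧸ D) P k hkD (by
    intro χ hχ
    rw [← charDegree_infl]
    refine hA _ (infl_mem hM D (RR N R₀) (RR_isPGroup N R₀) ((RR_le N R₀).trans le_sup_left)
      le_sup_right χ) (infl_fixed D hχ))
  haveI := h1.1
  have h2 := hodd ((P : Subgroup (G ⧸ D)).comap (QuotientGroup.mk' D)) inferInstance (by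
    rw [Subgroup.index_comap_of_surjective _ (QuotientGroup.mk'_surjective D),
      ← Nat.not_even_iff_odd, even_iff_two_dvd]
    exact P.not_dvd_index)
  have h3 : (P : Subgroup (G ⧸ D)) = ⊤ := by
    rw [eq_top_iff]
    intro x _
    obtain ⟨g, rfl⟩ := QuotientGroup.mk_surjective x
    have : g ∈ (P : Subgroup (G ⧸ D)).comap (QuotientGroup.mk' D) := by
      rw [h2]
      exact Subgroup.mem_top g
    exact this
  obtain ⟨j, hj⟩ := IsPGroup.iff_card.1 P.2
  refine ⟨j, ?_⟩
  rw [← hj, h3, Subgroup.card_top]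
  rfl

end

/-- **The conclusion from a moved fixed character of odd degree.** -/
theorem exists_of_moved {G : Type u} [Group G] [Finite G] {M : Ideal AlgInt}
    (hM : IsPModular 2 M) {k : ℕ} (hk : IsK G k) (N D : Subgroup G) [hN : N.Normal] [hD : D.Normal]
    (hND : N ≤ D) (hrel : Odd (N.relIndex D)) (hidx : ∃ j : ℕ, D.index = 2 ^ j)
    (hperf : ⁅N, N⁆ = N) (φ : IrrCharacter N) (hφ : Odd (charDegree (φ : N → ℂ)))
    (hφk : ∀ n : N, (φ : N → ℂ) (n ^ k) = (φ : N → ℂ) n) (x : G)
    (hx : ∀ d ∈ D, conjFn N (φ : N → ℂ) (x * d) ≠ φ) :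
    ∃ χ ∈ principalBlock M G, Even (charDegree (χ : G → ℂ)) ∧
      ∀ g : G, (χ : G → ℂ) (g ^ k) = (χ : G → ℂ) g := by
  classical
  haveI := Fintype.ofFinite G
  haveI := Fintype.ofFinite N
  haveI := Fintype.ofFinite D
  haveI := Fintype.ofFinite (N.subgroupOf D)
  haveI : (N.subgroupOf D).Normal := hN.subgroupOf D
  -- the fixed character of `D`
  have hover : ∀ θ : IrrCharacter D, classInner (fun n : N.subgroupOf D => (θ : D → ℂ) n)
      (dnIrr N D hND φ : N.subgroupOf D → ℂ) = classInner (resTo hND (θ : D → ℂ)) (φ : N → ℂ) := by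
    intro θ
    rw [← classInner_dn N D hND]
    rfl
  obtain ⟨β, h1, h2⟩ := exists_over (hk.sub D) (N.subgroupOf D) hrel (dnIrr N D hND φ) (by
    intro n
    show (φ : N → ℂ) (Subgroup.subgroupOfEquivOfLe hND (n ^ k)) =
      (φ : N → ℂ) (Subgroup.subgroupOfEquivOfLe hND n)
    rw [map_pow, hφk])
  rw [hover] at h1
  obtain ⟨-, h3, -⟩ := chain_facts N D hND hM hrel hk β φ h2 h1
  have hβodd : Odd (charDegree (β : D → ℂ)) := by
    rw [← Nat.not_even_iff_odd, h3, Nat.not_even_iff_odd]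
    exact hφ
  have hβm : β ∈ principalBlock M D :=
    Cfsg.Agent.H611.EvenFixed.mem_principalBlock_of_fixed hM
      ⟨(hk.sub D).two, (hk.sub D).odd⟩ β h2 (by
        rw [← even_iff_two_dvd, Nat.not_even_iff_odd]
        exact hβodd)
  -- the inertia group
  set I : Subgroup G := Cfsg.Agent.OddOrderCharacters.PF9.CliffGen.inertia D (β : D → ℂ) with hI
  haveI := Fintype.ofFinite I
  have hDI : D ≤ I :=
    Cfsg.Agent.OddOrderCharacters.PF9.CliffGen.le_inertia (isIrr_isClassFunction β.2)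
  have hIm : ∀ g, g ∈ I ↔ conjFn D (β : D → ℂ) g = β := fun g =>
    Cfsg.Agent.OddOrderCharacters.PF9.CliffGen.mem_inertia
  have hIt : I ≠ ⊤ := by
    intro hI1
    have hxI : conjFn D (β : D → ℂ) x = β := (hIm x).1 (by rw [hI1]; exact Subgroup.mem_top x)
    -- the conjugate of `φ` is under `β`
    have hφx : IsIrrCharacter N (conjFn N (φ : N → ℂ) x) :=
      Cfsg.Agent.OddOrderCharacters.IndRes.isIrr_conjFn N φ.2 x
    have h4 : classInner (resTo hND (β : D → ℂ)) (conjFn N (φ : N → ℂ) x) ≠ 0 := by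
      have h5 : resTo hND (β : D → ℂ) = conjFn N (resTo hND (β : D → ℂ)) x := by
        funext n
        have h6 := congrFun hxI ⟨n, hND n.2⟩
        exact h6.symm
      rw [h5, Cfsg.Agent.OddOrderCharacters.IndRes.classInner_conjFn]
      exact h1
    have h5 : classInner (fun n : N.subgroupOf D => (β : D → ℂ) n)
        (dnIrr N D hND ⟨conjFn N (φ : N → ℂ) x, hφx⟩ : N.subgroupOf D → ℂ) ≠ 0 := by
      rw [← classInner_dn N D hND] at h4
      exact h4
    have h6 : classInner (fun n : N.subgroupOf D => (β : D → ℂ) n)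
        (dnIrr N D hND φ : N.subgroupOf D → ℂ) ≠ 0 := by
      rw [hover]
      exact h1
    obtain ⟨d, hd⟩ := Cfsg.Agent.Characters.Clifford.exists_conj_of_constituents (N.subgroupOf D)
      β.2 (dnIrr N D hND ⟨conjFn N (φ : N → ℂ) x, hφx⟩).2 (dnIrr N D hND φ).2 h5 h6
    apply hx d d.2
    funext n
    have h7 := congrFun hd ⟨⟨n, hND n.2⟩, n.2⟩
    rw [Cfsg.Agent.OddOrderCharacters.NormalInduced.conjFn_mul]
    exact h7.symm
  -- the canonical extension
  haveI := Fintype.ofFinite (D.subgroupOf I)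
  haveI : (D.subgroupOf I).Normal := hD.subgroupOf I
  obtain ⟨j, hj⟩ := hidx
  have hdet' : Odd (detOrder (dnIrr D I hDI β : D.subgroupOf I → ℂ)) := by
    haveI : (N.subgroupOf I).Normal := hN.subgroupOf I
    haveI : ((N.subgroupOf I).subgroupOf (D.subgroupOf I)).Normal :=
      Subgroup.Normal.subgroupOf inferInstance _
    refine odd_detOrder ((N.subgroupOf I).subgroupOf (D.subgroupOf I)) ?_ ?_ _
    · show Odd ((N.subgroupOf I).relIndex (D.subgroupOf I))
      rw [Subgroup.relIndex_subgroupOf hDI]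
      exact hrel
    · have h4 : ⁅(N.subgroupOf I).subgroupOf (D.subgroupOf I),
          (N.subgroupOf I).subgroupOf (D.subgroupOf I)⁆ =
          (N.subgroupOf I).subgroupOf (D.subgroupOf I) := by
        apply Subgroup.map_injective (D.subgroupOf I).subtype_injective
        have h5 : N.subgroupOf I ≤ D.subgroupOf I := fun x hx => hND hx
        rw [Subgroup.map_commutator, Subgroup.map_subgroupOf_eq_of_le h5]
        apply Subgroup.map_injective I.subtype_injective
        rw [Subgroup.map_commutator, Subgroup.map_subgroupOf_eq_of_le (hND.trans hDI), hperf]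
      rw [← h4]
      exact Subgroup.commutator_mono le_top le_top
  obtain ⟨ψ, hψ1, hψ2⟩ := exists_fixed_ext (hk.sub I).coprime (D.subgroupOf I) (by
      have h4 : (D.subgroupOf I).index ∣ 2 ^ j := by
        rw [← hj]
        exact Subgroup.relIndex_dvd_index_of_normal D I
      obtain ⟨i, -, hi⟩ := (Nat.dvd_prime_pow Nat.prime_two).1 h4
      exact ⟨i, hi⟩) (dnIrr D I hDI β) (by
      intro n
      show (β : D → ℂ) (Subgroup.subgroupOfEquivOfLe hDI (n ^ k)) =
        (β : D → ℂ) (Subgroup.subgroupOfEquivOfLe hDI n)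
      rw [map_pow, h2])
    (fun g => inv_dn D I hDI (fun g hg => (hIm g).1 hg) g) (by
      have h4 : charDegree (dnIrr D I hDI β : D.subgroupOf I → ℂ) = charDegree (β : D → ℂ) := by
        rw [charDegree_def, charDegree_def]
        have h3 : (dnIrr D I hDI β : D.subgroupOf I → ℂ) 1 = (β : D → ℂ) 1 := by
          show (β : D → ℂ) ((Subgroup.subgroupOfEquivOfLe hDI) 1) = _
          rw [map_one]
        rw [h3]
      rw [h4]
      exact hβodd) hdet'
  have hres : resTo hDI (ψ : I → ℂ) = (β : D → ℂ) := by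
    funext d
    exact hψ2 ⟨⟨d, hDI d.2⟩, d.2⟩
  obtain ⟨χ, h4, h5, h6, -⟩ := of_inertia' hM D ⟨j, hj⟩ hk β hβm h2 I hIm hDI (GC.of_irr ψ.2) hψ1
    (by
      rw [hres]
      have : mu (β : D → ℂ) (β : D → ℂ) = 1 := mu_eq (by rw [classInner_irr_self β.2]; simp)
      rw [this]
      exact odd_one) (Or.inr hIt)
  exact ⟨χ, h4, h5, h6⟩

end Cfsg.Agent.H611.EB515

/-!
# Nonabelian minimal normal subgroups: the components
-/


namespace Cfsg.Agent.H611.EB515

open Cfsg
open scoped commutatorElement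
open Cfsg.Agent.H612.MinNormal (cj mem_cj mem_normalizer_iff_cj)

universe u

/-- Elements of `S C(S)`. -/
theorem exists_mul {G : Type u} [Group G] (S : Subgroup G) {x : G}
    (hx : x ∈ S ⊔ Subgroup.centralizer (S : Set G)) :
    ∃ s ∈ S, ∃ c ∈ Subgroup.centralizer (S : Set G), s * c = x := by
  have hcomm : ∀ s ∈ S, ∀ c ∈ Subgroup.centralizer (S : Set G), c * s = s * c := fun s hs c hc =>
    (Subgroup.mem_centralizer_iff.1 hc s hs).symm
  let H : Subgroup G :=
    { carrier := {x | ∃ s ∈ S, ∃ c ∈ Subgroup.centralizer (S : Set G), s * c = x}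
      one_mem' := ⟨1, S.one_mem, 1, Subgroup.one_mem _, one_mul 1⟩
      mul_mem' := by
        rintro _ _ ⟨s, hs, c, hc, rfl⟩ ⟨t, ht, d, hd, rfl⟩
        refine ⟨s * t, S.mul_mem hs ht, c * d, Subgroup.mul_mem _ hc hd, ?_⟩
        calc s * t * (c * d) = s * (t * c) * d := by group
          _ = s * (c * t) * d := by rw [hcomm t ht c hc]
          _ = s * c * (t * d) := by group
      inv_mem' := by
        rintro _ ⟨s, hs, c, hc, rfl⟩
        refine ⟨s⁻¹, S.inv_mem hs, c⁻¹, Subgroup.inv_mem _ hc, ?_⟩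
        rw [mul_inv_rev, hcomm _ (S.inv_mem hs) _ (Subgroup.inv_mem _ hc)] }
  have h1 : S ⊔ Subgroup.centralizer (S : Set G) ≤ H := by
    refine sup_le ?_ ?_
    · intro s hs
      exact ⟨s, hs, 1, Subgroup.one_mem _, mul_one s⟩
    · intro c hc
      exact ⟨1, S.one_mem, c, hc, one_mul c⟩
  exact h1 hx

/-- The setting: `S` is a component of the minimal normal subgroup `N`. -/
structure Comp {G : Type u} [Group G] (N S : Subgroup G) : Prop where
  le : S ≤ N
  norm : N ≤ Subgroup.normalizer (S : Set G)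
  simple : IsSimpleGroup S
  na : ¬ IsMulCommutative S
  sup : N ≤ S ⊔ Subgroup.centralizer (S : Set G)
  cj : ∀ g : G, cj g S = S ∨ cj g S ≤ Subgroup.centralizer (S : Set G)
  closure : Subgroup.normalClosure (S : Set G) = N
  cent : Subgroup.centralizer (N : Set G) = ⊥

namespace Comp

variable {G : Type u} [Group G] [Finite G] {N S : Subgroup G} [hN : N.Normal] (h : Comp N S)

include h

theorem eq_one {s : G} (hs : s ∈ S) (hsC : s ∈ Subgroup.centralizer (S : Set G)) : s = 1 := by
  haveI := h.simple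
  have h3 : (⟨s, hs⟩ : S) ∈ Subgroup.center S := by
    rw [Subgroup.mem_center_iff]
    intro t
    rw [Subgroup.mem_centralizer_iff] at hsC
    exact Subtype.ext (hsC t t.2)
  rcases h.simple.eq_bot_or_eq_top_of_normal (Subgroup.center S) inferInstance with h4 | h4
  · rw [h4, Subgroup.mem_bot] at h3
    exact congrArg Subtype.val h3
  · exfalso
    apply h.na
    refine ⟨⟨fun a b => ?_⟩⟩
    have h5 : a ∈ Subgroup.center S := by rw [h4]; exact Subgroup.mem_top a
    exact (Subgroup.mem_center_iff.1 h5 b).symm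

/-- An element commuting with all conjugates of `S` is trivial. -/
theorem eq_one_of_conj {x : G} (hx : ∀ g : G, g⁻¹ * x * g ∈ Subgroup.centralizer (S : Set G)) :
    x = 1 := by
  have h1 : x ∈ Subgroup.centralizer (N : Set G) := by
    have h2 : N ≤ Subgroup.centralizer ({x} : Set G) := by
      rw [← h.closure]
      show Subgroup.closure (Group.conjugatesOfSet (S : Set G)) ≤ _
      rw [Subgroup.closure_le]
      intro y hy
      obtain ⟨s, hs, hsy⟩ := Group.mem_conjugatesOfSet_iff.1 hy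
      obtain ⟨g, rfl⟩ := isConj_iff.1 hsy
      rw [SetLike.mem_coe, Subgroup.mem_centralizer_singleton_iff]
      have h3 := Subgroup.mem_centralizer_iff.1 (hx g) s hs
      calc g * s * g⁻¹ * x = g * (s * (g⁻¹ * x * g)) * g⁻¹ := by group
        _ = g * ((g⁻¹ * x * g) * s) * g⁻¹ := by rw [h3]
        _ = x * (g * s * g⁻¹) := by group
    rw [Subgroup.mem_centralizer_iff]
    intro n hn
    exact Subgroup.mem_centralizer_singleton_iff.1 (h2 hn)
  rw [h.cent, Subgroup.mem_bot] at h1
  exact h1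

/-- The projection on `S`. -/
theorem exists_proj : ∃ f : N →* S, (∀ n : N, f n = 1 ↔ (n : G) ∈ Subgroup.centralizer (S : Set G)) ∧
    ∀ s (hs : s ∈ S), f ⟨s, h.le hs⟩ = ⟨s, hs⟩ := by
  set K' : Subgroup N := (Subgroup.centralizer (S : Set G)).subgroupOf N with hK'
  haveI hK'n : K'.Normal := by
    constructor
    intro c hc t
    rw [hK', Subgroup.mem_subgroupOf, Subgroup.mem_centralizer_iff] at hc ⊢
    intro s hs
    have ht : (t : G) ∈ Subgroup.normalizer (S : Set G) := h.norm t.2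
    rw [Subgroup.mem_normalizer_iff''] at ht
    have h3 := hc ((t : G)⁻¹ * s * t) ((ht s).1 hs)
    push_cast
    calc s * ((t : G) * c * (t : G)⁻¹) = t * (((t : G)⁻¹ * s * t) * c) * (t : G)⁻¹ := by group
      _ = t * (c * ((t : G)⁻¹ * s * t)) * (t : G)⁻¹ := by rw [h3]
      _ = t * c * (t : G)⁻¹ * s := by group
  let φ : S →* N ⧸ K' := (QuotientGroup.mk' K').comp (Subgroup.inclusion h.le)
  have hφ : ∀ s : S, φ s = QuotientGroup.mk (Subgroup.inclusion h.le s) := fun s => rfl
  have hinj : Function.Injective φ := by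
    rw [injective_iff_map_eq_one]
    intro s hs
    rw [hφ, QuotientGroup.eq_one_iff, hK', Subgroup.mem_subgroupOf] at hs
    exact Subtype.ext (h.eq_one s.2 hs)
  have hsurj : Function.Surjective φ := by
    intro x
    obtain ⟨n, rfl⟩ := QuotientGroup.mk_surjective x
    obtain ⟨s, hs, c, hc, hsc⟩ := exists_mul S (h.sup n.2)
    refine ⟨⟨s, hs⟩, ?_⟩
    rw [hφ, QuotientGroup.eq, hK', Subgroup.mem_subgroupOf]
    show (s : G)⁻¹ * n ∈ _
    rw [← hsc]
    have : s⁻¹ * (s * c) = c := by group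
    rwa [this]
  let e : S ≃* N ⧸ K' := MulEquiv.ofBijective φ ⟨hinj, hsurj⟩
  refine ⟨e.symm.toMonoidHom.comp (QuotientGroup.mk' K'), fun n => ?_, fun s hs => ?_⟩
  · show e.symm (QuotientGroup.mk n) = 1 ↔ _
    rw [map_eq_one_iff e.symm e.symm.injective, QuotientGroup.eq_one_iff]
    rfl
  · show e.symm (QuotientGroup.mk _) = _
    rw [MulEquiv.symm_apply_eq]
    rfl

theorem even_card {q : G} (hqN : q ∈ N) (hq : q ≠ 1) (hq2 : ∃ j : ℕ, orderOf q = 2 ^ j) :
    2 ∣ Nat.card S := by
  obtain ⟨f, hf, -⟩ := h.exists_proj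
  by_contra h2
  apply hq
  apply h.eq_one_of_conj
  intro g
  have hgN : g⁻¹ * q * g ∈ N := by
    have := hN.conj_mem q hqN g⁻¹
    rwa [inv_inv] at this
  have h3 := hf ⟨_, hgN⟩
  rw [← h3]
  obtain ⟨j, hj⟩ := hq2
  have h4 : orderOf (f ⟨_, hgN⟩) ∣ 2 ^ j := by
    refine (orderOf_map_dvd f _).trans ?_
    rw [← hj, Subgroup.orderOf_mk]
    have : g⁻¹ * q * g = MulAut.conj g⁻¹ q := by
      rw [MulAut.conj_apply, inv_inv]
    rw [this, MulEquiv.orderOf_eq]
  have h5 : orderOf (f ⟨_, hgN⟩) ∣ Nat.card S := orderOf_dvd_natCard _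
  have h6 : Nat.Coprime (2 ^ j) (Nat.card S) :=
    Nat.Coprime.pow_left j ((Nat.Prime.coprime_iff_not_dvd Nat.prime_two).2 h2)
  exact orderOf_eq_one_iff.1 (Nat.eq_one_of_dvd_coprimes h6 h4 h5)

theorem comm (hab : ∀ Q : Sylow 2 S, IsMulCommutative Q) (R₀ : Sylow 2 N) :
    IsMulCommutative (R₀ : Subgroup N) := by
  obtain ⟨f, hf, -⟩ := h.exists_proj
  refine ⟨⟨fun a b => ?_⟩⟩
  apply Subtype.ext
  show (a : N) * b = b * a
  rw [← commutatorElement_eq_one_iff_mul_comm]
  apply Subtype.ext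
  apply h.eq_one_of_conj
  intro g
  -- the conjugate Sylow subgroup
  let e : MulAut N := MulAut.conjNormal g⁻¹
  have he : ∀ n : N, ((e n : N) : G) = g⁻¹ * n * g := by
    intro n
    rw [MulAut.conjNormal_apply, inv_inv]
  have h1 : g⁻¹ * ((⁅(a : N), (b : N)⁆ : N) : G) * g = ((⁅e a, e b⁆ : N) : G) := by
    rw [← he, map_commutatorElement]
  rw [h1, ← hf, map_commutatorElement, commutatorElement_eq_one_iff_mul_comm]
  have hQ : IsPGroup 2 (((R₀ : Subgroup N).map e.toMonoidHom).map f) := (R₀.2.map _).map _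
  obtain ⟨Q, hQQ⟩ := hQ.exists_le_sylow
  have h2 : f (e a) ∈ (Q : Subgroup S) := hQQ ⟨e a, ⟨a, a.2, rfl⟩, rfl⟩
  have h3 : f (e b) ∈ (Q : Subgroup S) := hQQ ⟨e b, ⟨b, b.2, rfl⟩, rfl⟩
  have h4 := (hab Q).is_comm.comm ⟨_, h2⟩ ⟨_, h3⟩
  exact congrArg Subtype.val h4

theorem cent_le (R₀ : Sylow 2 N) (hev : 2 ∣ Nat.card S) :
    Subgroup.centralizer (RR N R₀ : Set G) ≤ Subgroup.normalizer (S : Set G) := by
  haveI : Fact (Nat.Prime 2) := ⟨Nat.prime_two⟩
  obtain ⟨s, hs⟩ := exists_prime_orderOf_dvd_card' 2 hev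
  set s' : N := Subgroup.inclusion h.le s with hs'
  have hs'o : orderOf s' = 2 := by
    rw [hs', orderOf_injective _ (Subgroup.inclusion_injective h.le), hs]
  have hz : IsPGroup 2 (Subgroup.zpowers s') := by
    apply IsPGroup.of_card (n := 1)
    rw [Nat.card_zpowers, hs'o, pow_one]
  obtain ⟨Q, hQ⟩ := hz.exists_le_sylow
  obtain ⟨n, hn⟩ := MulAction.exists_smul_eq N R₀ Q
  have h1 : s' ∈ (Q : Subgroup N) := hQ (Subgroup.mem_zpowers s')
  rw [← hn, Sylow.coe_subgroup_smul, Subgroup.mem_pointwise_smul_iff_inv_smul_mem] at h1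
  have h2 : ((MulAut.conj n)⁻¹ • s') = n⁻¹ * s' * n := by
    rw [← map_inv, MulAut.smul_def, MulAut.conj_apply, inv_inv]
  rw [h2] at h1
  set r : G := ((n⁻¹ * s' * n : N) : G) with hr
  have hrR : r ∈ RR N R₀ := ⟨_, h1, rfl⟩
  have hrS : r ∈ S := by
    have h3 := h.norm n.2
    rw [Subgroup.mem_normalizer_iff''] at h3
    exact (h3 (s : G)).1 s.2
  have hr1 : r ≠ 1 := by
    intro h3
    have h4 : n⁻¹ * s' * n = 1 := Subtype.ext h3
    have h5 : s' = 1 := by
      have : s' = n * (n⁻¹ * s' * n) * n⁻¹ := by group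
      rw [this, h4]
      group
    rw [h5, orderOf_one] at hs'o
    exact absurd hs'o (by norm_num)
  intro x hx
  rcases h.cj x with h3 | h3
  · exact mem_normalizer_iff_cj.2 h3
  · exfalso
    apply hr1
    refine h.eq_one hrS (h3 ?_)
    rw [mem_cj]
    have h4 := Subgroup.mem_centralizer_iff.1 hx r hrR
    have h5 : x⁻¹ * r * x = r := by
      calc x⁻¹ * r * x = x⁻¹ * (r * x) := by group
        _ = x⁻¹ * (x * r) := by rw [h4]
        _ = r := by group
    rw [h5]
    exact hrS

theorem center : Subgroup.center N = ⊥ := by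
  rw [eq_bot_iff]
  intro z hz
  have h1 : (z : G) ∈ Subgroup.centralizer (N : Set G) := by
    rw [Subgroup.mem_centralizer_iff]
    intro n hn
    exact congrArg Subtype.val (Subgroup.mem_center_iff.1 hz ⟨n, hn⟩)
  rw [h.cent, Subgroup.mem_bot] at h1
  exact Subtype.ext h1

theorem perfect : ⁅N, N⁆ = N := by
  haveI := h.simple
  apply le_antisymm
  · exact Subgroup.commutator_le_right N N
  · have h1 : S ≤ ⁅N, N⁆ := by
      have h2 : ⁅S, S⁆ = S := by
        have h3 : commutator S = ⊤ := by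
          rcases h.simple.eq_bot_or_eq_top_of_normal (commutator S) inferInstance with h4 | h4
          · exfalso
            apply h.na
            refine ⟨⟨fun a b => ?_⟩⟩
            have h5 : ⁅a, b⁆ ∈ commutator S :=
              Subgroup.commutator_mem_commutator (Subgroup.mem_top a) (Subgroup.mem_top b)
            rw [h4, Subgroup.mem_bot, commutatorElement_eq_one_iff_mul_comm] at h5
            exact h5
          · exact h4
        have h4 : (commutator S).map S.subtype = ⁅S, S⁆ := by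
          rw [commutator_def, Subgroup.map_commutator, ← MonoidHom.range_eq_map, Subgroup.range_subtype]
        rw [← h4, h3, ← MonoidHom.range_eq_map, Subgroup.range_subtype]
      rw [← h2]
      exact Subgroup.commutator_mono h.le h.le
    calc N = Subgroup.normalClosure (S : Set G) := h.closure.symm
      _ ≤ ⁅N, N⁆ := Subgroup.normalClosure_le_normal h1

theorem core (hO : ∀ K : Subgroup G, K.Normal → Odd (Nat.card K) → K = ⊥) :
    Cfsg.pPrimeCore 2 N = ⊥ := by
  haveI hchar : (Cfsg.pPrimeCore 2 N).Characteristic :=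
    Cfsg.Agent.Lib.Cores.pPrimeCore_characteristic 2
  have h1 : ((Cfsg.pPrimeCore 2 N).map N.subtype).Normal :=
    ConjAct.normal_of_characteristic_of_normal
  have h2 : Odd (Nat.card ((Cfsg.pPrimeCore 2 N).map N.subtype)) := by
    rw [Nat.card_congr ((Cfsg.pPrimeCore 2 N).equivMapOfInjective _ N.subtype_injective).toEquiv.symm]
    exact Nat.coprime_two_right.1 (Cfsg.Agent.Lib.Cores.pPrimeCore_coprime 2)
  have h3 := hO _ h1 h2
  rwa [Subgroup.map_eq_bot_iff_of_injective _ N.subtype_injective] at h3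

end Comp

/-- The component of a nonabelian minimal normal subgroup. -/
theorem exists_comp {G : Type u} [Group G] [Finite G] (N : Subgroup G) [hN : N.Normal] (hNb : N ≠ ⊥)
    (hmin : ∀ K : Subgroup G, K.Normal → K ≤ N → K = ⊥ ∨ K = N)
    (hna : ¬ ∀ a ∈ N, ∀ b ∈ N, a * b = b * a)
    (hcent : Subgroup.centralizer (N : Set G) = ⊥) : ∃ S : Subgroup G, Comp N S := by
  obtain ⟨S, hSN, hNS, hsimple, hSna, hle, hcj⟩ :=
    Cfsg.Agent.H612.MinNormal.exists_factor N hNb hmin hna
  refine ⟨S, hSN, hNS, hsimple, hSna, hle, hcj, ?_, hcent⟩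
  rcases hmin (Subgroup.normalClosure (S : Set G)) inferInstance
    (Subgroup.normalClosure_le_normal hSN) with h | h
  · exfalso
    apply hSna
    have hS : S = ⊥ := by
      rw [eq_bot_iff, ← h]
      exact Subgroup.subset_normalClosure
    subst hS
    refine ⟨⟨fun a b => Subsingleton.elim _ _⟩⟩
  · exact h

end Cfsg.Agent.H611.EB515

/-!
# The case of a nonabelian minimal normal subgroup
-/


namespace Cfsg.Agent.H611.EB515

open Cfsg Cfsg.Agent.Characters Cfsg.Agent.H694
open scoped ComplexConjugate commutatorElement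
open Cfsg.Agent.Characters.Core
open Cfsg.Agent.OddOrderCharacters.NormalInduced (conjFn)
open Cfsg.Agent.OddOrderCharacters.PF9.CliffGen (resTo)
open Cfsg.Agent.Blocks.Local Cfsg.Agent.Blocks.Basic
open Cfsg.Agent.H610.EB Cfsg.Agent.H611.EB Cfsg.Agent.H684.EB
open Cfsg.Agent.H610
open Cfsg.Agent.H612.MinNormal (cj mem_cj mem_normalizer_iff_cj)

universe u

/-- The conclusion. -/
def Ex (M : Ideal AlgInt) (G : Type u) [Group G] (k : ℕ) : Prop :=
  ∃ χ ∈ principalBlock M G, Even (charDegree (χ : G → ℂ)) ∧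
    ∀ g : G, (χ : G → ℂ) (g ^ k) = (χ : G → ℂ) g

theorem AOB.not_ex {M : Ideal AlgInt} {G : Type u} [Group G] {k : ℕ} (h : AOB M G k) :
    ¬ Ex M G k := by
  rintro ⟨χ, h1, h2, h3⟩
  exact (Nat.not_even_iff_odd.2 (h χ h1 h3)) h2

section

variable {G : Type u} [Group G] [Finite G] {M : Ideal AlgInt} {k : ℕ} {N S : Subgroup G}
  [hN : N.Normal]

/-- nonabelian Sylow 2-subgroups of the components -/
theorem Comp.ex_of_na (h : Comp N S) (hM : IsPModular 2 M) (hk : IsK G k)
    (hEJ : EvenJ S) (hSch : Cfsg.Agent.Schreier.Basic.Sch S) (hev : 2 ∣ Nat.card S)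
    (hab : ∀ Q : Subgroup G, IsPGroup 2 Q → ⁅Q, Q⁆ ≤ N) : Ex M G k := by
  obtain ⟨R₀⟩ : Nonempty (Sylow 2 N) := inferInstance
  exact exists_of_component hM hk S h.na h.simple hEJ hSch h.cj
    (fun Q hQ => (hab Q hQ).trans h.sup) (RR N R₀) (RR_isPGroup N R₀)
    ((RR_le N R₀).trans h.norm) (h.cent_le R₀ hev)

/-- A character of `N` trivial on `C_N(S)`. -/
theorem Comp.exists_char (h : Comp N S) (hk : IsK G k) (hev : 2 ∣ Nat.card S) :
    ∃ φ : IrrCharacter N, Odd (charDegree (φ : N → ℂ)) ∧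
      (∀ n : N, (φ : N → ℂ) (n ^ k) = (φ : N → ℂ) n) ∧
      (∀ n : N, (n : G) ∈ Subgroup.centralizer (S : Set G) → (φ : N → ℂ) n = (φ : N → ℂ) 1) ∧
      ∃ s, ∃ hs : s ∈ S, (φ : N → ℂ) ⟨s, h.le hs⟩ ≠ (φ : N → ℂ) 1 := by
  classical
  obtain ⟨f, hf, hf'⟩ := h.exists_proj
  obtain ⟨ψ, h1, h2, h3⟩ := Cfsg.Agent.H611.EvenFixed.exists_odd_fixed
    (k := k) (⟨(hk.sub S).two, (hk.sub S).odd⟩ : Cfsg.Agent.H611.EvenFixed.Twist S k) hev
  have hsurj : Function.Surjective f := by
    intro s
    exact ⟨⟨s, h.le s.2⟩, hf' s s.2⟩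
  refine ⟨⟨(ψ : S → ℂ) ∘ f, isIrr_comp f hsurj ψ.2⟩, ?_, ?_, ?_, ?_⟩
  · have h4 : charDegree ((ψ : S → ℂ) ∘ f) = charDegree (ψ : S → ℂ) := by
      rw [charDegree_def, charDegree_def, Function.comp_apply, map_one]
    show Odd (charDegree ((ψ : S → ℂ) ∘ f))
    rw [h4, ← Nat.not_even_iff_odd, even_iff_two_dvd]
    exact h2
  · intro n
    show (ψ : S → ℂ) (f (n ^ k)) = (ψ : S → ℂ) (f n)
    rw [map_pow, h3]
  · intro n hn
    show (ψ : S → ℂ) (f n) = (ψ : S → ℂ) (f 1)
    rw [(hf n).2 hn, map_one]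
  · by_contra hcon
    push Not at hcon
    apply h1
    have h4 := Cfsg.Agent.H633.Principal.eq_one_of_ker_top ψ (fun s => by
      have h5 := hcon s s.2
      have h6 : (ψ : S → ℂ) (f ⟨s, h.le s.2⟩) = (ψ : S → ℂ) (f 1) := h5
      rw [hf' s s.2, map_one] at h6
      exact h6)
    exact h4

variable (h16 : Nine.{u}) (hM : IsPModular 2 M) (hk : IsK G k) (hA : AOB M G k)
  (hodd : ∀ K : Subgroup G, K.Normal → Odd K.index → K = ⊤)
  (hO : ∀ K : Subgroup G, K.Normal → Odd (Nat.card K) → K = ⊥)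

include h16 hM hk hA hodd hO

/-- abelian Sylow 2-subgroups, more than one component -/
theorem Comp.ex_of_ab (h : Comp N S) (hev : 2 ∣ Nat.card S)
    (hab : ∀ Q : Sylow 2 S, IsMulCommutative Q)
    (hT : Subgroup.normalizer (S : Set G) ≠ ⊤) : Ex M G k := by
  classical
  obtain ⟨R₀⟩ : Nonempty (Sylow 2 N) := inferInstance
  have hR := h.comm hab R₀
  set D := N ⊔ Subgroup.centralizer (RR N R₀ : Set G) with hD
  haveI hDn : D.Normal := normal_sup N R₀
  have hDT : D ≤ Subgroup.normalizer (S : Set G) := sup_le h.norm (h.cent_le R₀ hev)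
  obtain ⟨x, hx⟩ : ∃ x : G, x ∉ Subgroup.normalizer (S : Set G) := by
    by_contra hcon
    push Not at hcon
    exact hT (eq_top_iff.2 fun x _ => hcon x)
  obtain ⟨φ, h1, h2, h3, s, hs, h4⟩ := h.exists_char hk hev
  refine exists_of_moved hM hk N D le_sup_left
    (odd_relIndex_sup N h.cent R₀ h.center (h.core hO) hR)
    (index_sup N R₀ h16 hM hk hA hodd) h.perfect φ h1 h2 x ?_
  intro d hd h5
  have hg : x * d ∉ Subgroup.normalizer (S : Set G) := by
    intro h6
    apply hx
    have := Subgroup.mul_mem _ h6 (Subgroup.inv_mem _ (hDT hd))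
    rwa [mul_inv_cancel_right] at this
  have h6 : (x * d) * s * (x * d)⁻¹ ∈ Subgroup.centralizer (S : Set G) := by
    have h7 : (x * d) * s * (x * d)⁻¹ ∈ Cfsg.Agent.H612.MinNormal.cj (x * d) S := by
      rw [mem_cj]
      have : (x * d)⁻¹ * (x * d * s * (x * d)⁻¹) * (x * d) = s := by group
      rw [this]
      exact hs
    rcases h.cj (x * d) with h8 | h8
    · exact absurd (mem_normalizer_iff_cj.2 h8) hg
    · exact h8 h7
  have h7 := congrFun h5 ⟨s, h.le hs⟩
  rw [Cfsg.Agent.OddOrderCharacters.NormalInduced.conjFn_apply] at h7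
  rw [← h7] at h4
  exact h4 (h3 _ h6)

end

end Cfsg.Agent.H611.EB515

/-!
# The case of a simple minimal normal subgroup with abelian Sylow 2-subgroups
-/


namespace Cfsg.Agent.H611.EB515

open Cfsg Cfsg.Agent.Characters Cfsg.Agent.H694
open scoped ComplexConjugate commutatorElement
open Cfsg.Agent.Characters.Core
open Cfsg.Agent.OddOrderCharacters.NormalInduced (conjFn)
open Cfsg.Agent.Blocks.Local Cfsg.Agent.Blocks.Basic
open Cfsg.Agent.H610.EB Cfsg.Agent.H611.EB Cfsg.Agent.H684.EB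
open Cfsg.Agent.H610

universe u

/-- `SL(2, 2^e)`: an automorphism of odd order fixing a Sylow 2-subgroup pointwise is trivial. -/
theorem centP_of_sl2 {S : Type*} [Group S] (F : Type) [Field F] [Fintype F] (e : ℕ)
    (hF : Fintype.card F = 2 ^ e)
    (hS : Nonempty (S ≃* Matrix.SpecialLinearGroup (Fin 2) F)) : Cfsg.Agent.H142.GmnPC.CentP 2 S := by
  haveI : Fact (Nat.Prime 2) := ⟨Nat.prime_two⟩
  haveI : CharP F 2 := charP_of_card_eq_prime_pow hF
  have h : Subgroup.center (Matrix.SpecialLinearGroup (Fin 2) F) = ⊥ := by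
    rw [eq_bot_iff]
    intro A hA
    obtain ⟨r, hr, hA⟩ := Matrix.SpecialLinearGroup.mem_center_iff.1 hA
    rw [Fintype.card_fin] at hr
    have h1 : (r - 1) ^ 2 = 0 := by
      have h2 : (2 : F) = 0 := CharTwo.two_eq_zero
      linear_combination hr + (1 - r) * h2
    have h2 : r = 1 := sub_eq_zero.1 (pow_eq_zero_iff (two_ne_zero) |>.1 h1)
    rw [Subgroup.mem_bot]
    apply Subtype.ext
    rw [← hA, h2, map_one]
    rfl
  obtain ⟨f⟩ := hS
  have f' : Matrix.ProjectiveSpecialLinearGroup (Fin 2) F ≃* S :=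
    ((QuotientGroup.quotientMulEquivOfEq h).trans QuotientGroup.quotientBot).trans f.symm
  exact Cfsg.Agent.H142.GmnTable.CentP.congr f' (Cfsg.Agent.H142.GmnTable.centP_psl2 2)

/-- The Sylow 2-subgroups of the simple groups with abelian Sylow 2-subgroups. -/
def CardRow : Prop :=
  ∀ (S : Type u) [Group S] [Finite S] [IsSimpleGroup S], ¬ IsMulCommutative S →
    (∀ P : Sylow 2 S, IsMulCommutative P) → ∀ P : Sylow 2 S, Nat.card P = 4 ∨ Nat.card P = 8 ∨
    (∃ (F : Type) (_ : Field F) (_ : Fintype F) (e : ℕ), 2 ≤ e ∧ Fintype.card F = 2 ^ e ∧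
      Nonempty (S ≃* Matrix.SpecialLinearGroup (Fin 2) F))

section

variable {G : Type u} [Group G] [Finite G] {M : Ideal AlgInt} {k : ℕ} (N : Subgroup G)
  [hN : N.Normal]

/-- `C_G(R) ≤ N`. -/
theorem centralizer_le_of_centP (hC : Subgroup.centralizer (N : Set G) = ⊥) (R₀ : Sylow 2 N)
    (hZ : Subgroup.center N = ⊥) (hO : Cfsg.pPrimeCore 2 N = ⊥)
    (hab : IsMulCommutative (R₀ : Subgroup N)) (hP : Cfsg.Agent.H142.GmnPC.CentP 2 N) :
    Subgroup.centralizer (RR N R₀ : Set G) ≤ N := by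
  classical
  intro c hc
  obtain ⟨a, m, hm, hgm⟩ := Nat.exists_eq_two_pow_mul_odd (orderOf_pos c).ne'
  have hcop : Nat.Coprime (2 ^ a) m := Nat.Coprime.pow_left a (Nat.coprime_two_left.2 hm)
  -- the odd part is trivial
  have h1 : c ^ 2 ^ a = 1 := by
    have h2 : (MulAut.conjNormal (c ^ 2 ^ a) : MulAut N) = 1 := by
      apply hP R₀
      · intro h3
        have h4 : orderOf (MulAut.conjNormal (c ^ 2 ^ a) : MulAut N) ∣ m := by
          apply orderOf_dvd_of_pow_eq_one
          rw [← map_pow, ← pow_mul, ← hgm, pow_orderOf_eq_one, map_one]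
        exact (Nat.not_even_iff_odd.2 hm) (even_iff_two_dvd.2 (h3.trans h4))
      · intro r hr
        apply Subtype.ext
        rw [MulAut.conjNormal_apply]
        have h3 : c ^ 2 ^ a ∈ Subgroup.centralizer (RR N R₀ : Set G) := Subgroup.pow_mem _ hc _
        rw [Subgroup.mem_centralizer_iff] at h3
        rw [← h3 (r : G) ⟨r, hr, rfl⟩]
        group
    have h3 : c ^ 2 ^ a ∈ Subgroup.centralizer (N : Set G) := by
      rw [Subgroup.mem_centralizer_iff]
      intro n hn
      have h4 := congrArg (fun f : MulAut N => ((f ⟨n, hn⟩ : N) : G)) h2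
      simp only [MulAut.conjNormal_apply] at h4
      have h5 : c ^ 2 ^ a * n * (c ^ 2 ^ a)⁻¹ = n := h4
      rw [mul_inv_eq_iff_eq_mul] at h5
      exact h5.symm
    rw [hC, Subgroup.mem_bot] at h3
    exact h3
  exact mem_of_two N hC R₀ hZ hO hab
    (by
      obtain ⟨i, -, hi⟩ := (Nat.dvd_prime_pow Nat.prime_two).1 (orderOf_dvd_of_pow_eq_one h1)
      exact ⟨i, hi⟩) hc

/-- **`N` simple with abelian Sylow 2-subgroups.** -/
theorem ex_of_simple (hM : IsPModular 2 M) (hk : IsK G k) (h16 : Nine.{u}) (hcs : CardRow.{u})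
    (hA : AOB M G k)
    (hodd : ∀ K : Subgroup G, K.Normal → Odd K.index → K = ⊤)
    (hs : IsSimpleGroup N) (hna : ¬ IsMulCommutative N)
    (hC : Subgroup.centralizer (N : Set G) = ⊥) (hZ : Subgroup.center N = ⊥)
    (hO : Cfsg.pPrimeCore 2 N = ⊥) (hperf : ⁅N, N⁆ = N)
    (hab : ∀ Q : Sylow 2 N, IsMulCommutative Q) (P : Sylow 2 G) (hP : ¬ IsMulCommutative P) :
    Ex M G k := by
  classical
  haveI := Fintype.ofFinite G
  haveI : Fact (Nat.Prime 2) := ⟨Nat.prime_two⟩
  obtain ⟨R₀⟩ : Nonempty (Sylow 2 N) := inferInstance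
  obtain ⟨P', hP'⟩ := (RR_isPGroup N R₀).exists_le_sylow
  have hP'na : ¬ IsMulCommutative P' := by
    intro h
    apply hP
    refine ⟨⟨fun a b => ?_⟩⟩
    apply (P.equiv P').injective
    rw [map_mul, map_mul]
    exact h.is_comm.comm _ _
  -- the intersection
  have hint : (P' : Subgroup G) ⊓ N = RR N R₀ := by
    have h1 : (P' : Subgroup G).subgroupOf N = (R₀ : Subgroup N) := by
      refine R₀.3 (P'.2.comap_of_injective N.subtype N.subtype_injective) ?_
      intro r hr
      exact hP' ⟨r, hr, rfl⟩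
    rw [RR, ← h1, Subgroup.subgroupOf_map_subtype]
  have hRab : IsMulCommutative ((P' : Subgroup G) ⊓ N : Subgroup G) := by
    rw [hint]
    refine ⟨⟨fun a b => ?_⟩⟩
    obtain ⟨a', ha', haa⟩ := a.2
    obtain ⟨b', hb', hbb⟩ := b.2
    have h1 := (hab R₀).is_comm.comm ⟨a', ha'⟩ ⟨b', hb'⟩
    apply Subtype.ext
    show (a : G) * b = b * a
    rw [← haa, ← hbb, ← map_mul, ← map_mul]
    exact congrArg N.subtype (congrArg Subtype.val h1)
  have hcent : (P' : Subgroup G) ⊓ Subgroup.centralizer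
      (((P' : Subgroup G) ⊓ N : Subgroup G) : Set G) ≤ N := by
    rintro x ⟨hx, hxC⟩
    rw [hint] at hxC
    refine mem_of_two N hC R₀ hZ hO (hab R₀) ?_ hxC
    obtain ⟨j, hj⟩ := IsPGroup.iff_orderOf.1 P'.2 ⟨x, hx⟩
    exact ⟨j, by rw [← hj, ← Subgroup.orderOf_coe]⟩
  have hcard : Nat.card ((P' : Subgroup G) ⊓ N : Subgroup G) = Nat.card R₀ := by
    rw [hint]
    exact (Nat.card_congr ((R₀ : Subgroup N).equivMapOfInjective _ N.subtype_injective).toEquiv).symm
  rcases hcs N hna hab R₀ with h4 | h8 | ⟨F, _, _, e, he, hF, hS⟩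
  · exact Cfsg.Agent.H729.EB515CardFour.exists_even_of_card_four hM hk N hs hna P' hP'na
      (hcard.trans h4) hcent
  · exfalso
    have h1 := Cfsg.Agent.H183.EB515.sylow_le_of_card_eight N hs hna P' hRab
      (hcard.trans h8) hcent
    apply hP'na
    rwa [inf_eq_left.2 h1] at hRab
  · have hCR := centralizer_le_of_centP N hC R₀ hZ hO (hab R₀) (centP_of_sl2 F e hF hS)
    have hidx := index_sup N R₀ h16 hM hk hA hodd
    rw [sup_eq_left.2 hCR] at hidx
    obtain ⟨x, hxP, hxN⟩ : ∃ x ∈ P', x ∉ N := by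
      by_contra hcon
      push Not at hcon
      apply hP'na
      have h1 : (P' : Subgroup G) ≤ N := hcon
      rwa [inf_eq_left.2 h1] at hRab
    obtain ⟨θ, h1, h2, g, h3⟩ := Cfsg.Agent.H832.EB515.exists_moved F e he hF hS
      (MulAut.conjNormal x : MulAut N) (by
        rintro ⟨s, hs⟩
        apply hxN
        have h4 : (s : G)⁻¹ * x ∈ Subgroup.centralizer (N : Set G) := by
          rw [Subgroup.mem_centralizer_iff]
          intro m hm
          have h5 := congrArg Subtype.val (hs ⟨m, hm⟩)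
          rw [MulAut.conjNormal_apply] at h5
          have h6 : x * m * x⁻¹ = (s : G) * m * (s : G)⁻¹ := h5
          have h7 : m = (s : G)⁻¹ * (x * m * x⁻¹) * s := by rw [h6]; group
          calc m * ((s : G)⁻¹ * x) = (s : G)⁻¹ * (x * m * x⁻¹) * s * ((s : G)⁻¹ * x) := by
                rw [← h7]
            _ = (s : G)⁻¹ * x * m := by group
        rw [hC, Subgroup.mem_bot] at h4
        rw [← inv_mul_eq_one.1 h4]
        exact s.2) (hk.sub N)
    refine exists_of_moved hM hk N N le_rfl ?_ hidx hperf θ h1 h2 x ?_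
    · rw [Subgroup.relIndex_self]
      exact odd_one
    · intro d hd h4
      apply h3
      have h5 := congrFun h4 (⟨d, hd⟩⁻¹ * g * ⟨d, hd⟩)
      rw [Cfsg.Agent.OddOrderCharacters.NormalInduced.conjFn_apply] at h5
      have h6 : (θ : N → ℂ) (⟨d, hd⟩⁻¹ * g * ⟨d, hd⟩) = (θ : N → ℂ) g := by
        have h7 := isIrr_isClassFunction θ.2 g ⟨d, hd⟩⁻¹
        rwa [inv_inv] at h7
      rw [h6] at h5
      rw [← h5]
      have h7 : (MulAut.conjNormal x : MulAut N) g = ⟨x * d * ↑(⟨d, hd⟩⁻¹ * g * ⟨d, hd⟩ : N) * (x * d)⁻¹,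
          hN.conj_mem _ (⟨d, hd⟩⁻¹ * g * ⟨d, hd⟩ : N).2 (x * d)⟩ := by
        apply Subtype.ext
        rw [MulAut.conjNormal_apply]
        show x * g * x⁻¹ = x * d * (d⁻¹ * g * d) * (x * d)⁻¹
        group
      rw [h7]

end

end Cfsg.Agent.H611.EB515

/-!
# The case of an abelian minimal normal subgroup
-/


namespace Cfsg.Agent.H611.EB515

open Cfsg Cfsg.Agent.Characters Cfsg.Agent.H694
open scoped ComplexConjugate commutatorElement
open Cfsg.Agent.Characters.Core
open Cfsg.Agent.Blocks.Local Cfsg.Agent.Blocks.Basic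
open Cfsg.Agent.H610.EB Cfsg.Agent.H611.EB
open Cfsg.Agent.H610

universe u

/-- A central element of 2-power order in a perfect group lies in the commutator subgroup of every
Sylow 2-subgroup. -/
theorem mem_commutator_of_central {E : Type u} [Group E] [Finite E] (hE : commutator E = ⊤)
    (P : Sylow 2 E) {z : E} (hz : ∃ j : ℕ, orderOf z = 2 ^ j) (hzc : ∀ g : E, g * z = z * g) :
    z ∈ (commutator P).map (P : Subgroup E).subtype := by
  classical
  haveI : Fact (Nat.Prime 2) := ⟨Nat.prime_two⟩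
  let φ : (P : Subgroup E) →* Abelianization (P : Subgroup E) := Abelianization.of
  have key : ∀ (k : ℕ) (g₀ : E), g₀⁻¹ * z ^ k * g₀ ∈ (P : Subgroup E) →
      g₀⁻¹ * z ^ k * g₀ = z ^ k := by
    intro k g₀ _
    have h1 : Commute g₀ (z ^ k) := Commute.pow_right (hzc g₀) k
    rw [mul_assoc, ← h1.eq, inv_mul_cancel_left]
  have h1 := MonoidHom.transfer_eq_pow φ z key
  have h2 : φ.transfer z = 1 := by
    have h3 : z ∈ commutator E := by rw [hE]; exact Subgroup.mem_top z
    exact MonoidHom.mem_ker.1 (Abelianization.commutator_subset_ker φ.transfer h3)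
  rw [h2] at h1
  have h3 : (⟨z ^ (P : Subgroup E).index, MonoidHom.transfer_eq_pow_aux z key⟩ : (P : Subgroup E)) ∈
      commutator (P : Subgroup E) := by
    rw [← Abelianization.ker_of]
    exact h1.symm
  have h4 : z ^ (P : Subgroup E).index ∈ (commutator P).map (P : Subgroup E).subtype :=
    ⟨_, h3, rfl⟩
  obtain ⟨j, hj⟩ := hz
  have hcop : Nat.Coprime (P : Subgroup E).index (orderOf z) := by
    rw [hj]
    apply Nat.Coprime.pow_right
    rw [Nat.coprime_comm, Nat.Prime.coprime_iff_not_dvd Nat.prime_two]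
    exact P.not_dvd_index
  obtain ⟨m, hm⟩ := exists_pow_eq_self_of_coprime hcop
  rw [← hm]
  exact Subgroup.pow_mem _ h4 m

section

variable {G : Type u} [Group G] [Finite G] {M : Ideal AlgInt} {k : ℕ}

/-- **An abelian minimal normal subgroup.** -/
theorem ex_of_two (hM : IsPModular 2 M) (hk : IsK G k) (h16 : Nine.{u}) (hA : AOB M G k)
    (hO : ∀ K : Subgroup G, K.Normal → Odd (Nat.card K) → K = ⊥)
    (hq : ∀ K : Subgroup G, K.Normal → K ≠ ⊥ → ∀ Q : Subgroup G, IsPGroup 2 Q → ⁅Q, Q⁆ ≤ K)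
    (P : Sylow 2 G) (hP : ¬ IsMulCommutative P) (N : Subgroup G) [hN : N.Normal] (hNb : N ≠ ⊥)
    (hmin : ∀ K : Subgroup G, K.Normal → K ≤ N → K = ⊥ ∨ K = N) (hN2 : IsPGroup 2 N) :
    Ex M G k := by
  classical
  haveI := Fintype.ofFinite G
  haveI : Fact (Nat.Prime 2) := ⟨Nat.prime_two⟩
  haveI hOn : (Cfsg.pCore 2 G).Normal := Cfsg.Agent.Lib.Cores.pCore_normal 2
  have hO2 : IsPGroup 2 (Cfsg.pCore 2 G) := Cfsg.Agent.Lib.Cores.pCore_isPGroup 2
  by_cases hc : Subgroup.centralizer (Cfsg.pCore 2 G : Set G) ≤ Cfsg.pCore 2 G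
  · -- one block
    exfalso
    apply hP
    refine (h16 G P k hk fun χ hχ => hA χ ?_ hχ).2
    exact Cfsg.Agent.Blocks.UniqueBlock.sameBlock_of_centralizer_le hM _ hO2 hc
      ⟨fun _ => 1, isIrr_one⟩ χ
  · set K : Subgroup G := Subgroup.centralizer (Cfsg.pCore 2 G : Set G) with hK
    haveI hKn : K.Normal := by
      rw [hK]
      infer_instance
    have hKs : ¬ Group.IsSolvable K := by
      intro hs
      apply hc
      have h1 : Cfsg.pPrimeCore 2 K = ⊥ := by
        haveI hchar : (Cfsg.pPrimeCore 2 K).Characteristic :=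
          Cfsg.Agent.Lib.Cores.pPrimeCore_characteristic 2
        have h1 : ((Cfsg.pPrimeCore 2 K).map K.subtype).Normal :=
          ConjAct.normal_of_characteristic_of_normal
        have h2 : Odd (Nat.card ((Cfsg.pPrimeCore 2 K).map K.subtype)) := by
          rw [Nat.card_congr
            ((Cfsg.pPrimeCore 2 K).equivMapOfInjective _ K.subtype_injective).toEquiv.symm]
          exact Nat.coprime_two_right.1 (Cfsg.Agent.Lib.Cores.pPrimeCore_coprime 2)
        have h3 := hO _ h1 h2
        rwa [Subgroup.map_eq_bot_iff_of_injective _ K.subtype_injective] at h3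
      have h2 := Cfsg.Agent.Lib.HallHigman.centralizer_pCore_le_of_solvable (G := K) 2 h1
      have h3 : (Cfsg.pCore 2 K).map K.subtype ≤ Cfsg.pCore 2 G := by
        haveI hchar : (Cfsg.pCore 2 K).Characteristic :=
          Cfsg.Agent.Lib.Cores.pCore_characteristic 2
        have h1 : ((Cfsg.pCore 2 K).map K.subtype).Normal :=
          ConjAct.normal_of_characteristic_of_normal
        exact Cfsg.Agent.Lib.Cores.le_pCore h1
          ((Cfsg.Agent.Lib.Cores.pCore_isPGroup 2).map _)
      intro x hx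
      apply h3
      refine ⟨⟨x, hx⟩, h2 ?_, rfl⟩
      rw [Subgroup.mem_centralizer_iff]
      intro y hy
      apply Subtype.ext
      exact Subgroup.mem_centralizer_iff.1 hx y (h3 ⟨y, hy, rfl⟩)
    -- a perfect normal subgroup
    obtain ⟨E, ⟨hEn, hEs, hEK⟩, hEmin⟩ : ∃ E : Subgroup G,
        (E.Normal ∧ ¬ Group.IsSolvable E ∧ E ≤ K) ∧ ∀ F : Subgroup G,
          (F.Normal ∧ ¬ Group.IsSolvable F ∧ F ≤ K) → F ≤ E → E ≤ F := by
      obtain ⟨E, hE, hE2⟩ := (Set.toFinite {E : Subgroup G | E.Normal ∧ ¬ Group.IsSolvable E ∧ E ≤ K}).exists_minimal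
        ⟨K, hKn, hKs, le_rfl⟩
      exact ⟨E, hE, fun F hF hFE => hE2 hF hFE⟩
    haveI := hEn
    have hEE : ⁅E, E⁆ = E := by
      apply le_antisymm (Subgroup.commutator_le_right E E)
      refine hEmin _ ⟨inferInstance, ?_, (Subgroup.commutator_le_right E E).trans hEK⟩
        (Subgroup.commutator_le_right E E)
      intro hs
      apply hEs
      have h1 : (commutator E).map E.subtype = ⁅E, E⁆ := by
        rw [commutator_def, Subgroup.map_commutator, ← MonoidHom.range_eq_map,
          Subgroup.range_subtype]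
      rw [← h1] at hs
      haveI h2 : Group.IsSolvable (commutator E) :=
        Group.isSolvable_of_isSolvable_injective
          (f := ((commutator E).equivMapOfInjective _ E.subtype_injective).toMonoidHom)
          ((commutator E).equivMapOfInjective _ E.subtype_injective).injective
      haveI : Group.IsSolvable (Abelianization E) := Group.isSolvable_of_comm mul_comm
      exact Group.isSolvable_of_ker_le_range (commutator E).subtype Abelianization.of (by
        rw [Abelianization.ker_of, Subgroup.range_subtype])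
    have hEb : E ≠ ⊥ := by
      rintro rfl
      apply hEs
      infer_instance
    have hPb : ⁅(P : Subgroup G), (P : Subgroup G)⁆ ≠ ⊥ := by
      intro h
      apply hP
      rw [Subgroup.commutator_eq_bot_iff_le_centralizer] at h
      refine ⟨⟨fun a b => ?_⟩⟩
      apply Subtype.ext
      exact (Subgroup.mem_centralizer_iff.1 (h a.2) b b.2).symm
    have hPN : ⁅(P : Subgroup G), (P : Subgroup G)⁆ ≤ N := hq N hN hNb P P.2
    have hNE : N ≤ E := by
      rcases hmin (N ⊓ E) inferInstance inf_le_left with h | h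
      · exfalso
        apply hPb
        rw [eq_bot_iff, ← h]
        exact le_inf hPN (hq E hEn hEb P P.2)
      · exact inf_eq_left.1 h
    have hNC : N ≤ Cfsg.pCore 2 G := Cfsg.Agent.Lib.Cores.le_pCore hN hN2
    -- the Sylow subgroup of `E`
    have hNP : N ≤ ⁅(P : Subgroup G), (P : Subgroup G)⁆ := by
      intro z hz
      obtain ⟨Q⟩ : Nonempty (Sylow 2 E) := inferInstance
      obtain ⟨P₂, hP₂⟩ := (Q.2.map E.subtype).exists_le_sylow
      obtain ⟨g, hg⟩ := MulAction.exists_smul_eq G P P₂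
      have hz' : g * z * g⁻¹ ∈ N := hN.conj_mem z hz g
      have hcE : commutator E = ⊤ := by
        apply Subgroup.map_injective E.subtype_injective
        rw [commutator_def, Subgroup.map_commutator, ← MonoidHom.range_eq_map,
          Subgroup.range_subtype, hEE]
      have h1 := mem_commutator_of_central hcE Q (z := ⟨g * z * g⁻¹, hNE hz'⟩) (by
        obtain ⟨j, hj⟩ := IsPGroup.iff_orderOf.1 hN2 ⟨_, hz'⟩
        refine ⟨j, ?_⟩
        rw [Subgroup.orderOf_mk] at hj ⊢
        exact hj) (by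
        intro e
        apply Subtype.ext
        have h2 := Subgroup.mem_centralizer_iff.1 (hEK e.2) _ (hNC hz')
        exact h2.symm)
      have h2 : g * z * g⁻¹ ∈ ⁅(P₂ : Subgroup G), (P₂ : Subgroup G)⁆ := by
        obtain ⟨w, hw, hwz⟩ := h1
        have h3 : g * z * g⁻¹ = E.subtype ((Q : Subgroup E).subtype w) := by
          rw [hwz]
          rfl
        have h4 : g * z * g⁻¹ ∈ ((commutator Q).map (Q : Subgroup E).subtype).map E.subtype :=
          ⟨_, ⟨w, hw, rfl⟩, h3.symm⟩
        rw [commutator_def, Subgroup.map_commutator, ← MonoidHom.range_eq_map,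
          Subgroup.range_subtype, Subgroup.map_commutator] at h4
        exact Subgroup.commutator_mono hP₂ hP₂ h4
      have h3 : (P₂ : Subgroup G) = (P : Subgroup G).map (MulAut.conj g).toMonoidHom := by
        rw [← hg]
        rfl
      rw [h3, ← Subgroup.map_commutator] at h2
      obtain ⟨w, hw, hwz⟩ := h2
      have h4 : w = z := by
        have h5 : g * w * g⁻¹ = g * z * g⁻¹ := hwz
        exact mul_left_cancel (mul_right_cancel h5)
      rw [← h4]
      exact hw
    refine Cfsg.Agent.H724.EB515.exists_even_of_normal_commutator hM hk P hP ?_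
    have h1 : (commutator P).map (P : Subgroup G).subtype = N := by
      have h2 : (commutator P).map (P : Subgroup G).subtype =
          ⁅(P : Subgroup G), (P : Subgroup G)⁆ := by
        rw [commutator_def, Subgroup.map_commutator, ← MonoidHom.range_eq_map,
          Subgroup.range_subtype]
      rw [h2]
      exact le_antisymm hPN hNP
    rw [h1]
    exact hN

end

end Cfsg.Agent.H611.EB515

/-!
# S4515, left to right: the minimal counterexample
-/


namespace Cfsg.Agent.H611.EB515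

open Cfsg Cfsg.Agent.Characters Cfsg.Agent.H694
open scoped ComplexConjugate commutatorElement
open Cfsg.Agent.Characters.Core
open Cfsg.Agent.Blocks.Local Cfsg.Agent.Blocks.Basic
open Cfsg.Agent.H610.EB Cfsg.Agent.H611.EB Cfsg.Agent.H684.EB
open Cfsg.Agent.H610

universe u

/-- `EvenJ` for the simple groups with nonabelian Sylow 2-subgroups. -/
def Rows : Prop :=
  ∀ (S : Type u) [Group S] [Finite S] [IsSimpleGroup S], ¬ IsMulCommutative S →
    (¬ ∀ Q : Sylow 2 S, IsMulCommutative Q) → EvenJ S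

/-- The Schreier property. -/
def Schr : Prop :=
  ∀ (S : Type u) [Group S] [Finite S] [IsSimpleGroup S], ¬ IsMulCommutative S →
    Cfsg.Agent.Schreier.Basic.Sch S

/-- A minimal normal subgroup. -/
theorem exists_min {G : Type u} [Group G] [Finite G] [Nontrivial G] :
    ∃ N : Subgroup G, N.Normal ∧ N ≠ ⊥ ∧
      ∀ K : Subgroup G, K.Normal → K ≤ N → K = ⊥ ∨ K = N := by
  obtain ⟨N, hN, hN2⟩ := (Set.toFinite {K : Subgroup G | K.Normal ∧ K ≠ ⊥}).exists_minimal
    ⟨⊤, inferInstance, top_ne_bot⟩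
  refine ⟨N, hN.1, hN.2, fun K hK hKN => ?_⟩
  by_cases hK1 : K = ⊥
  · exact Or.inl hK1
  · exact Or.inr (le_antisymm hKN (hN2 ⟨hK, hK1⟩ hKN))

/-- **S4515, left to right.** -/
theorem comm_of_aob {M : Ideal AlgInt} (hM : IsPModular 2 M) (h16 : Nine.{u}) (hrows : Rows.{u})
    (hSch : Schr.{u}) (hcs : CardRow.{u}) (k : ℕ) (n : ℕ) : ∀ (G : Type u) [Group G] [Finite G], Nat.card G = n →
      IsK G k → AOB M G k → ∀ P : Sylow 2 G, IsMulCommutative P := by
  classical
  haveI : Fact (Nat.Prime 2) := ⟨Nat.prime_two⟩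
  haveI hMp := isPrime_of_isPModular hM
  induction n using Nat.strong_induction_on with
  | _ n ih =>
    intro G _ _ hn hk hA P
    by_contra hP
    haveI := Fintype.ofFinite G
    -- normal subgroups of odd index
    have hodd : ∀ K : Subgroup G, K.Normal → Odd K.index → K = ⊤ := by
      intro K hK hidx
      by_contra hKt
      have h1 : Nat.card K < n := by
        rw [← hn, ← Subgroup.card_mul_index K]
        have h2 : K.index ≠ 1 := fun h => hKt (Subgroup.index_eq_one.1 h)
        have h3 : 0 < K.index := Nat.pos_of_ne_zero Subgroup.index_ne_zero_of_finite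
        exact lt_mul_right Nat.card_pos (by omega)
      have hKA : AOB M K k := hA.odd_index hM hk K hidx
      have hPK : (P : Subgroup G) ≤ K := by
        intro x hx
        obtain ⟨j, hj⟩ := IsPGroup.iff_orderOf.1 P.2 ⟨x, hx⟩
        rw [Subgroup.orderOf_mk] at hj
        rw [← QuotientGroup.eq_one_iff (N := K)]
        have h2 : orderOf (QuotientGroup.mk x : G ⧸ K) ∣ 2 ^ j := by
          rw [← hj]
          exact orderOf_map_dvd (QuotientGroup.mk' K) x
        have h3 : orderOf (QuotientGroup.mk x : G ⧸ K) ∣ K.index := orderOf_dvd_natCard _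
        have h4 : Nat.Coprime (2 ^ j) K.index :=
          Nat.Coprime.pow_left j (Nat.coprime_two_left.2 hidx)
        exact orderOf_eq_one_iff.1 (Nat.eq_one_of_dvd_coprimes h4 h2 h3)
      have h2 := ih _ h1 K rfl (hk.sub K) hKA (P.subtype hPK)
      apply hP
      refine ⟨⟨fun a b => ?_⟩⟩
      have h3 := h2.is_comm.comm ⟨⟨a, hPK a.2⟩, a.2⟩ ⟨⟨b, hPK b.2⟩, b.2⟩
      exact Subtype.ext (congrArg (fun x : (P.subtype hPK : Subgroup K) => ((x : K) : G)) h3)
    -- nontrivial normal subgroups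
    have hq : ∀ K : Subgroup G, K.Normal → K ≠ ⊥ → ∀ Q : Subgroup G, IsPGroup 2 Q →
        ⁅Q, Q⁆ ≤ K := by
      intro K hK hKb Q hQ
      have h1 : Nat.card (G ⧸ K) < n := by
        rw [← hn, ← Subgroup.card_mul_index K]
        have h2 : 1 < Nat.card K := by
          have h3 : Nat.card K ≠ 1 := fun h => hKb (Subgroup.card_eq_one.1 h)
          have h4 : 0 < Nat.card K := Nat.card_pos
          omega
        exact lt_mul_left (Nat.pos_of_ne_zero Subgroup.index_ne_zero_of_finite) h2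
      obtain ⟨P₁, hP₁⟩ := (hQ.map (QuotientGroup.mk' K)).exists_le_sylow
      have h2 := ih _ h1 (G ⧸ K) rfl
        (IsK.of_surjective hk (QuotientGroup.mk' K) (QuotientGroup.mk'_surjective K))
        (hA.quot hM K) P₁
      rw [Subgroup.commutator_le]
      intro a ha b hb
      have h3 := h2.is_comm.comm ⟨_, hP₁ ⟨a, ha, rfl⟩⟩ ⟨_, hP₁ ⟨b, hb, rfl⟩⟩
      have h4 := congrArg (fun x : (P₁ : Subgroup (G ⧸ K)) => (x : G ⧸ K)) h3
      have h5 : (QuotientGroup.mk' K) a * (QuotientGroup.mk' K) b =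
        (QuotientGroup.mk' K) b * (QuotientGroup.mk' K) a := h4
      rw [← QuotientGroup.ker_mk' K, MonoidHom.mem_ker, map_commutatorElement,
        commutatorElement_eq_one_iff_mul_comm]
      exact h5
    have hPb : ⁅(P : Subgroup G), (P : Subgroup G)⁆ ≠ ⊥ := by
      intro h
      apply hP
      rw [Subgroup.commutator_eq_bot_iff_le_centralizer] at h
      refine ⟨⟨fun a b => ?_⟩⟩
      apply Subtype.ext
      exact (Subgroup.mem_centralizer_iff.1 (h a.2) b b.2).symm
    have hPP : ⁅(P : Subgroup G), (P : Subgroup G)⁆ ≤ P := Subgroup.commutator_le_self _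
    obtain ⟨q, hqP, hq1⟩ : ∃ q ∈ ⁅(P : Subgroup G), (P : Subgroup G)⁆, q ≠ 1 := by
      by_contra hcon
      push Not at hcon
      exact hPb (eq_bot_iff.2 fun x hx => hcon x hx)
    have hq2 : ∃ j : ℕ, orderOf q = 2 ^ j := by
      obtain ⟨j, hj⟩ := IsPGroup.iff_orderOf.1 P.2 ⟨q, hPP hqP⟩
      rw [Subgroup.orderOf_mk] at hj
      exact ⟨j, hj⟩
    -- `O(G) = 1`
    have hO : ∀ K : Subgroup G, K.Normal → Odd (Nat.card K) → K = ⊥ := by
      intro K hK hKo
      by_contra hKb
      have h1 : q ∈ K := hq K hK hKb P P.2 hqP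
      obtain ⟨j, hj⟩ := hq2
      have h2 : orderOf q ∣ Nat.card K := by
        rw [← Subgroup.orderOf_mk q h1]
        exact orderOf_dvd_natCard _
      apply hq1
      rw [← orderOf_eq_one_iff]
      refine Nat.eq_one_of_dvd_coprimes (a := 2 ^ j) (b := Nat.card K) ?_ (by rw [hj]) h2
      exact Nat.Coprime.pow_left j (Nat.coprime_two_left.2 hKo)
    haveI : Nontrivial G := ⟨q, 1, hq1⟩
    obtain ⟨N, hN, hNb, hmin⟩ := exists_min (G := G)
    haveI := hN
    have hPN : ⁅(P : Subgroup G), (P : Subgroup G)⁆ ≤ N := hq N hN hNb P P.2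
    apply hA.not_ex
    by_cases hab : ∀ a ∈ N, ∀ b ∈ N, a * b = b * a
    · -- abelian
      refine ex_of_two hM hk h16 hA hO hq P hP N hNb hmin ?_
      have h1 : Cfsg.pPrimeCore 2 N = ⊥ := by
        haveI hchar : (Cfsg.pPrimeCore 2 N).Characteristic :=
          Cfsg.Agent.Lib.Cores.pPrimeCore_characteristic 2
        have h1 : ((Cfsg.pPrimeCore 2 N).map N.subtype).Normal :=
          ConjAct.normal_of_characteristic_of_normal
        have h2 : Odd (Nat.card ((Cfsg.pPrimeCore 2 N).map N.subtype)) := by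
          rw [Nat.card_congr
            ((Cfsg.pPrimeCore 2 N).equivMapOfInjective _ N.subtype_injective).toEquiv.symm]
          exact Nat.coprime_two_right.1 (Cfsg.Agent.Lib.Cores.pPrimeCore_coprime 2)
        have h3 := hO _ h1 h2
        rwa [Subgroup.map_eq_bot_iff_of_injective _ N.subtype_injective] at h3
      haveI : Group.IsSolvable N := Group.isSolvable_of_comm fun a b =>
        Subtype.ext (hab a a.2 b b.2)
      have h2 := Cfsg.Agent.Lib.HallHigman.centralizer_pCore_le_of_solvable (G := N) 2 h1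
      have h3 : Cfsg.pCore 2 N = ⊤ := by
        rw [eq_top_iff]
        refine le_trans ?_ h2
        intro a _
        rw [Subgroup.mem_centralizer_iff]
        intro b _
        exact Subtype.ext (hab b b.2 a a.2)
      exact (Cfsg.Agent.Lib.Cores.pCore_eq_top_iff 2).1 h3
    · -- nonabelian
      have hC : Subgroup.centralizer (N : Set G) = ⊥ := by
        by_contra hCb
        haveI : (Subgroup.centralizer (N : Set G)).Normal := inferInstance
        rcases hmin (N ⊓ Subgroup.centralizer (N : Set G)) inferInstance inf_le_left with h | h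
        · apply hPb
          rw [eq_bot_iff, ← h]
          exact le_inf hPN (hq _ inferInstance hCb P P.2)
        · apply hab
          intro a ha b hb
          exact Subgroup.mem_centralizer_iff.1 ((inf_eq_left.1 h) hb) a ha
      obtain ⟨S, hS⟩ := exists_comp N hNb hmin hab hC
      haveI := hS.simple
      have hev : 2 ∣ Nat.card S := hS.even_card (hPN hqP) hq1 hq2
      by_cases hSab : ∀ Q : Sylow 2 S, IsMulCommutative Q
      · by_cases hT : Subgroup.normalizer (S : Set G) = ⊤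
        · haveI : S.Normal := Subgroup.normalizer_eq_top_iff.1 hT
          have hSN : S = N := by
            rw [← hS.closure]
            exact (Subgroup.normalClosure_eq_self S).symm
          subst hSN
          exact ex_of_simple S hM hk h16 hcs hA hodd hS.simple hS.na hS.cent hS.center (hS.core hO)
            hS.perfect hSab P hP
        · exact hS.ex_of_ab h16 hM hk hA hodd hO hev hSab hT
      · exact hS.ex_of_na hM hk (hrows S hS.na hSab) (hSch S hS.na) hev
          fun Q hQ => hq N hN hNb Q hQ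

end Cfsg.Agent.H611.EB515

/-!
# S4515 from `EvenJ`, the Schreier property, S4516 and the simple groups with abelian Sylow
2-subgroups
-/


namespace Cfsg.Agent.H611.EB515

open Cfsg Cfsg.Agent.H610.EB
open scoped ComplexConjugate

universe u

/-- The principal 2-blocks of the simple groups with abelian Sylow 2-subgroups. -/
def OddRow : Prop :=
  ∀ (M : Ideal AlgInt), IsPModular 2 M → ∀ (S : Type u) [Group S] [Finite S] [IsSimpleGroup S],
    ¬ IsMulCommutative S → (∀ P : Sylow 2 S, IsMulCommutative P) →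
    ∀ χ ∈ principalBlock M S, Odd (charDegree (χ : S → ℂ))

/-- **S4515** from its ingredients. -/
theorem iff_of (h16 : Nine.{u}) (hrows : Rows.{u}) (hSch : Schr.{u}) (hcs : CardRow.{u})
    (hor : OddRow.{u}) {G : Type u} [Group G] [Finite G] (M : Ideal AlgInt) (hM : IsPModular 2 M)
    (P : Sylow 2 G) (k : ℕ) (hk₁ : ∀ g : G, (∃ j : ℕ, orderOf g = 2 ^ j) → g ^ k = g)
    (hk₂ : ∀ g : G, Odd (orderOf g) → g ^ k = g⁻¹) :
    (∀ χ ∈ principalBlock M G, (∀ g : G, (χ : G → ℂ) (g ^ k) = (χ : G → ℂ) g) →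
      Odd (charDegree (χ : G → ℂ))) ↔ IsMulCommutative P := by
  have hk : IsK G k := ⟨hk₁, hk₂⟩
  constructor
  · intro h
    exact comm_of_aob hM h16 hrows hSch hcs k (Nat.card G) G rfl hk h P
  · intro hP χ hχ _
    exact Cfsg.Agent.H921.EB515.odd_of_abelian hM (hor M hM) G P hP χ hχ

end Cfsg.Agent.H611.EB515
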