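import Cfsg.Agent.S0205
import Cfsg.Agent.S2921
import Cfsg.Agent.OddHalf.Soft
import Cfsg.Agent.SmallSimple.EvenOrder
import Cfsg.Agent.SmallSimple.PSLTwoPart
import Cfsg.Agent.H41.EB515.Rows
import Cfsg.Agent.H191.EB515.OddRee
import Cfsg.Agent.H808.EB515.JOne
import Cfsg.Agent.H611.EB515.Iff

/-!
# The simple groups with abelian Sylow 2-subgroups

* `types`: the list (from S2921);
* `cardRow`: the orders of their Sylow 2-subgroups;
* `oddRow`: all characters in the principal 2-block have odd degree.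
-/

set_option autoImplicit false

namespace Cfsg.Agent.H611.EB515

open Cfsg Cfsg.Agent.H610.EB
open scoped ComplexConjugate

universe u

section

variable {S : Type u} [Group S] [Finite S]

theorem card_sylow_of_dvd {n : ℕ} (h1 : 2 ^ n ∣ Nat.card S) (h2 : ¬ 2 ^ (n + 1) ∣ Nat.card S)
    (P : Sylow 2 S) : Nat.card P = 2 ^ n := by
  haveI : Fact (Nat.Prime 2) := ⟨Nat.prime_two⟩
  rw [P.card_eq_multiplicity]
  congr 1
  have h0 : Nat.card S ≠ 0 := Nat.card_pos.ne'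
  apply le_antisymm
  · by_contra hcon
    apply h2
    exact (Nat.Prime.pow_dvd_iff_le_factorization Nat.prime_two h0).2 (by omega)
  · exact (Nat.Prime.pow_dvd_iff_le_factorization Nat.prime_two h0).1 h1

/-- `PSL(2, q)`, `q ≡ 3, 5 mod 8`. -/
theorem card_sylow_psl {F : Type} [Field F] [Fintype F] {q : ℕ} (hq : Fintype.card F = q)
    (h8 : q % 8 = 3 ∨ q % 8 = 5) (e : S ≃* Matrix.ProjectiveSpecialLinearGroup (Fin 2) F)
    (P : Sylow 2 S) : Nat.card P = 4 := by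
  have hodd : Odd (Fintype.card F) := by
    rw [hq, Nat.odd_iff]
    omega
  have h1 := Cfsg.Agent.SmallSimple.PSLTwoPart.card_psl_two_odd hodd
  rw [hq, ← Nat.card_congr e.toEquiv] at h1
  have h3 : q ^ 2 % 16 = 9 := by
    rw [pow_two, Nat.mul_mod]
    have : q % 16 = 3 ∨ q % 16 = 5 ∨ q % 16 = 11 ∨ q % 16 = 13 := by omega
    rcases this with h | h | h | h <;> rw [h]
  have h4 : ∃ m : ℕ, Odd m ∧ q * (q ^ 2 - 1) = 8 * m := by
    refine ⟨q * ((q ^ 2 - 1) / 8), ?_, ?_⟩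
    · apply Odd.mul
      · rw [Nat.odd_iff]
        omega
      · rw [Nat.odd_iff]
        omega
    · have h5 : q ^ 2 - 1 = 8 * ((q ^ 2 - 1) / 8) := by omega
      calc q * (q ^ 2 - 1) = q * (8 * ((q ^ 2 - 1) / 8)) := by rw [← h5]
        _ = 8 * (q * ((q ^ 2 - 1) / 8)) := by ring
  obtain ⟨m, hm, h5⟩ := h4
  rw [h5] at h1
  have h6 : Nat.card S = 4 * m := by omega
  obtain ⟨j, rfl⟩ := hm
  exact card_sylow_of_dvd (n := 2) ⟨2 * j + 1, by rw [h6]; norm_num⟩ (by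
    rintro ⟨i, hi⟩
    rw [h6] at hi
    norm_num at hi
    omega) P

/-- The Ree groups. -/
theorem card_sylow_ree (h : Cfsg.Lie.IsoRee S) (P : Sylow 2 S) : Nat.card P = 8 := by
  haveI : Fact (Nat.Prime 2) := ⟨Nat.prime_two⟩
  obtain ⟨K, i1, i2, k, hk, hK, ⟨f⟩⟩ := h
  have hfin : Finite ↥(Cfsg.Lie.twistedG2 K (3 ^ k)) := Finite.of_equiv _ f.toEquiv
  obtain ⟨a, haH, ha1, ha2⟩ := Cfsg.Agent.S1157.exists_involution hK
  obtain ⟨-, hS⟩ := Cfsg.Agent.S1152.result hK a haH ha1 ha2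
  obtain ⟨R⟩ : Nonempty (Sylow 2 ↥(Cfsg.Lie.twistedG2 K (3 ^ k))) := inferInstance
  have h8 : Nat.card P = Nat.card R := by
    rw [P.card_eq_multiplicity, R.card_eq_multiplicity, Nat.card_congr f.toEquiv]
  rw [h8]
  exact (hS R).1

/-- `J₁`. -/
theorem card_sylow_j1 (h : Cfsg.Spor.IsoJ1 S) (P : Sylow 2 S) : Nat.card P = 8 := by
  obtain ⟨e⟩ := h
  have h1 : Nat.card S = 175560 := by
    rw [Nat.card_congr e.toEquiv]
    exact Cfsg.Agent.H413.JOneLocal.card_J1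
  exact card_sylow_of_dvd (n := 3) (by rw [h1]; norm_num) (by rw [h1]; norm_num) P

variable [IsSimpleGroup S]

/-- **The simple groups with abelian Sylow 2-subgroups.** -/
theorem types (hna : ¬ IsMulCommutative S) (hab : ∀ P : Sylow 2 S, IsMulCommutative P) :
    (∃ (F : Type) (_ : Field F) (_ : Fintype F) (e : ℕ), 2 ≤ e ∧ Fintype.card F = 2 ^ e ∧
      Nonempty (S ≃* Matrix.SpecialLinearGroup (Fin 2) F)) ∨
    Cfsg.Lie.IsoRee S ∨ Cfsg.Spor.IsoJ1 S ∨ ∀ P : Sylow 2 S, Nat.card P = 4 := by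
  haveI : Fact (Nat.Prime 2) := ⟨Nat.prime_two⟩
  have h2 : 2 ∣ Nat.card S := by
    by_contra h
    have h1 : Odd (Nat.card S) := by
      rw [← Nat.not_even_iff_odd, even_iff_two_dvd]
      exact h
    have h2 : Group.IsSolvable S := Cfsg.Agent.S0205.result h1
    exact hna ⟨⟨IsSimpleGroup.comm_iff_isSolvable.2 h2⟩⟩
  have h4 := Cfsg.Agent.SmallSimple.EvenOrder.four_dvd_card hna h2
  have e := Cfsg.Agent.OddHalf.Soft.fstarEquiv (G := S) hna
  haveI hn : (Cfsg.generalizedFittingSubgroup S).Normal := Cfsg.Agent.Lib.GenFitting.genFitting_normal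
  obtain ⟨P⟩ : Nonempty (Sylow 2 S) := inferInstance
  have hP : 4 ≤ Nat.card (P : Subgroup S) := by
    apply Nat.le_of_dvd Nat.card_pos
    rw [P.card_eq_multiplicity]
    have h0 : Nat.card S ≠ 0 := Nat.card_pos.ne'
    have h5 : 2 ^ 2 ∣ Nat.card S := h4
    exact pow_dvd_pow 2 ((Nat.Prime.pow_dvd_iff_le_factorization Nat.prime_two h0).1 h5)
  obtain ⟨-, h5, -⟩ := Cfsg.Agent.S2921.result (G := S)
    (Cfsg.Agent.OddHalf.Known.isSimple_congr e.symm inferInstance)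
    (by
      intro h
      apply hna
      refine ⟨⟨fun a b => e.symm.injective ?_⟩⟩
      rw [map_mul, map_mul]
      exact h.is_comm.comm _ _) P (hab P) hP
  rcases h5 with ⟨F, i1, i2, n, h6, h7, ⟨f⟩⟩ | h5 | ⟨⟨f⟩⟩ | ⟨F, i1, i2, r, b, hr, h6, h7, h8, ⟨f⟩⟩
  · exact Or.inl ⟨F, i1, i2, n, h6, h7, ⟨e.symm.trans f⟩⟩
  · obtain ⟨F, i, j, m, h1, h2, ⟨f⟩⟩ := h5
    exact Or.inr (Or.inl ⟨F, i, j, m, h1, h2, ⟨e.symm.trans f⟩⟩)
  · exact Or.inr (Or.inr (Or.inl ⟨e.symm.trans f⟩))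
  · exact Or.inr (Or.inr (Or.inr fun Q => card_sylow_psl h6 h8 (e.symm.trans f) Q))

end

/-- **The orders of the Sylow 2-subgroups.** -/
theorem cardRow : CardRow.{u} := by
  intro S _ _ _ hna hab P
  rcases types hna hab with h | h | h | h
  · exact Or.inr (Or.inr h)
  · exact Or.inr (Or.inl (card_sylow_ree h P))
  · exact Or.inr (Or.inl (card_sylow_j1 h P))
  · exact Or.inl (h P)

/-- **The principal 2-blocks.** -/
theorem oddRow : OddRow.{u} := by
  intro M hM S _ _ _ hna hab χ hχ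
  haveI : Fact (Nat.Prime 2) := ⟨Nat.prime_two⟩
  obtain ⟨P⟩ : Nonempty (Sylow 2 S) := inferInstance
  rcases types hna hab with ⟨F, i1, i2, e, he, hF, hS⟩ | h | h | h
  · exact Cfsg.Agent.H41.EB515.odd_of_sl2 F e he hF hS hM χ hχ
  · exact Cfsg.Agent.H191.EB515.odd_of_isoRee h hM χ hχ
  · exact Cfsg.Agent.H808.EB515.odd_of_isoJ1 h hM χ hχ
  · exact Cfsg.Agent.H41.EB515.odd_of_four hna P (h P) hM χ hχ

end Cfsg.Agent.H611.EB515
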